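import Cfsg.Agent.Lib.Small.ClassNumber.Det

/-!
Primary decompositions of an endomorphism of a finite-dimensional space, and their invariants.
-/

set_option autoImplicit false
set_option linter.style.haveILetI false
set_option linter.unusedSectionVars false

namespace Cfsg.Agent.Small.ClassNumber

open Polynomial

universe u v

variable {F : Type u} [Field F] {V : Type v} [AddCommGroup V] [Module F V]

/-- A decomposition into primary cyclic blocks. -/
structure Decomp (T : Module.End F V) where
  /-- the blocks -/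
  κ : Type u
  /-- finitely many -/
  fin : Fintype κ
  /-- the primes -/
  p : κ → F[X]
  /-- the exponents -/
  e : κ → ℕ
  irred : ∀ i, Irreducible (p i)
  monic : ∀ i, (p i).Monic
  pos : ∀ i, e i ≠ 0
  /-- the coordinates -/
  Ψ : V ≃ₗ[F] (∀ i, AdjoinRoot (p i ^ e i))
  comm : ∀ v i, Ψ (T v) i = AdjoinRoot.root (p i ^ e i) * Ψ v i

attribute [instance] Decomp.fin

theorem exists_decomp [FiniteDimensional F V] (T : Module.End F V) : Nonempty (Decomp T) := by
  classical
  obtain ⟨κ, _, q, hq, e, ⟨Φ⟩⟩ := Module.equiv_directSum_of_isTorsion (R := F[X]) (M := Module.AEval' T)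
    (Module.AEval.isTorsion_of_finiteDimensional F V T)
  let p : κ → F[X] := fun i => q i * C (q i).leadingCoeff⁻¹
  have hass : ∀ i, Associated (q i) (p i) := fun i => associated_mul_unit_right (q i) _
    (isUnit_C.mpr (Ne.isUnit (inv_ne_zero (leadingCoeff_ne_zero.mpr (hq i).ne_zero))))
  have hspan : ∀ i, (Submodule.span F[X] {q i ^ e i} : Submodule F[X] F[X]) =
      Ideal.span {p i ^ e i} := fun i => Ideal.span_singleton_eq_span_singleton.mpr ((hass i).pow_pow)
  let j : ∀ i, (F[X] ⧸ Submodule.span F[X] {q i ^ e i}) → AdjoinRoot (p i ^ e i) :=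
    fun i x => Submodule.quotEquivOfEq _ _ (hspan i) x
  have hj : ∀ (i) (b : F[X]) (x : F[X] ⧸ Submodule.span F[X] {q i ^ e i}),
      j i (b • x) = AdjoinRoot.mk (p i ^ e i) b * j i x := by
    intro i b x
    obtain ⟨a, rfl⟩ := Submodule.Quotient.mk_surjective _ x
    rfl
  have hadd : ∀ i x y, j i (x + y) = j i x + j i y := fun i x y => map_add (Submodule.quotEquivOfEq _ _ (hspan i)) x y
  have hinj : ∀ i, Function.Injective (j i) := fun i => (Submodule.quotEquivOfEq _ _ (hspan i)).injective
  have hsurj : ∀ i, Function.Surjective (j i) := fun i => (Submodule.quotEquivOfEq _ _ (hspan i)).surjective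
  let L : V →ₗ[F] (∀ i : {i : κ // e i ≠ 0}, AdjoinRoot (p i ^ e i)) :=
    { toFun := fun x i => j i (Φ (Module.AEval'.of T x) i)
      map_add' := fun x y => funext fun i => by
        rw [map_add, map_add]
        exact hadd _ _ _
      map_smul' := fun c x => funext fun i => by
        show j i (Φ (Module.AEval'.of T (c • x)) i) = c • j i (Φ (Module.AEval'.of T x) i)
        rw [map_smul, Algebra.smul_def (A := AdjoinRoot _),
          show (algebraMap F (AdjoinRoot (p i ^ e i))) c = AdjoinRoot.mk (p i ^ e i) (C c) from rfl,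
          ← hj, ← IsScalarTower.algebraMap_smul F[X] c (Module.AEval'.of T x), Polynomial.algebraMap_eq,
          map_smul]
        rfl }
  have htriv : ∀ i, e i = 0 → Subsingleton (F[X] ⧸ Submodule.span F[X] {q i ^ e i}) := by
    intro i hi
    rw [Submodule.Quotient.subsingleton_iff, hi, pow_zero]
    exact Ideal.span_singleton_one
  have hL : Function.Bijective L := by
    refine ⟨fun x y hxy => ?_, fun y => ?_⟩
    · refine (Module.AEval'.of T).injective (Φ.injective (DFinsupp.ext fun i => ?_))
      by_cases hi : e i = 0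
      · haveI := htriv i hi
        exact Subsingleton.elim _ _
      · exact hinj i (congrFun hxy ⟨i, hi⟩)
    · let z : ∀ i, F[X] ⧸ Submodule.span F[X] {q i ^ e i} := fun i =>
        if hi : e i = 0 then 0 else (hsurj i (y ⟨i, hi⟩)).choose
      refine ⟨(Module.AEval'.of T).symm (Φ.symm (DFinsupp.equivFunOnFintype.symm z)), funext fun i => ?_⟩
      show j i (Φ (Module.AEval'.of T _) i) = y i
      rw [LinearEquiv.apply_symm_apply, LinearEquiv.apply_symm_apply]
      show j i (z i) = y i
      simp only [z, dif_neg i.2]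
      exact (hsurj i.1 (y i)).choose_spec
  refine ⟨⟨{i : κ // e i ≠ 0}, inferInstance, fun i => p i, fun i => e i, fun i => (hass i).irreducible (hq i),
    fun i => monic_mul_leadingCoeff_inv (hq i).ne_zero, fun i => i.2, LinearEquiv.ofBijective L hL,
    fun x i => ?_⟩⟩
  show j i (Φ (Module.AEval'.of T (T x)) i) = _ * j i (Φ (Module.AEval'.of T x) i)
  rw [← Module.AEval'.X_smul_of, map_smul, ← AdjoinRoot.mk_X, ← hj]
  rfl

namespace Decomp

variable {T : Module.End F V} (D : Decomp T)

theorem map_aeval (a : F[X]) (x : V) (i : D.κ) :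
    D.Ψ (aeval T a x) i = AdjoinRoot.mk (D.p i ^ D.e i) a * D.Ψ x i := by
  induction a using Polynomial.induction_on generalizing x with
  | C c =>
    rw [aeval_C, Module.algebraMap_end_apply, map_smul, Pi.smul_apply, Algebra.smul_def]
    rfl
  | add a b ha hb =>
    rw [map_add, LinearMap.add_apply, map_add, Pi.add_apply, ha, hb, map_add, add_mul]
  | monomial k c ih =>
    rw [pow_succ, ← mul_assoc, map_mul, aeval_X, Module.End.mul_apply, ih, D.comm, map_mul _ _ (X : F[X]),
      AdjoinRoot.mk_X, mul_assoc]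

theorem finrank_eq : Module.finrank F V = ∑ i, D.e i * (D.p i).natDegree := by
  haveI : ∀ i, Module.Finite F (AdjoinRoot (D.p i ^ D.e i)) := fun i => finite_adjoinRoot ((D.monic i).pow _)
  rw [D.Ψ.finrank_eq, Module.finrank_pi_fintype]
  exact Finset.sum_congr rfl fun i _ => by rw [finrank_adjoinRoot ((D.monic i).pow _), natDegree_pow]

/-- Transport of a componentwise map. -/
noncomputable def ofPi : (∀ i, Module.End F (AdjoinRoot (D.p i ^ D.e i))) →* Module.End F V where
  toFun g := D.Ψ.symm.conj (piEnd _ g)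
  map_one' := by rw [map_one]; exact D.Ψ.symm.conj_id
  map_mul' g h := by rw [map_mul]; exact D.Ψ.symm.conj_comp _ _

theorem det_ofPi (g : ∀ i, Module.End F (AdjoinRoot (D.p i ^ D.e i))) :
    LinearMap.det (D.ofPi g) = ∏ i, LinearMap.det (g i) := by
  classical
  haveI : ∀ i, Module.Finite F (AdjoinRoot (D.p i ^ D.e i)) := fun i => finite_adjoinRoot ((D.monic i).pow _)
  rw [← det_piEnd]
  show LinearMap.det (D.Ψ.symm.conj (piEnd _ g)) = _
  rw [LinearEquiv.conj_apply, LinearMap.comp_assoc]
  exact LinearMap.det_conj _ D.Ψ.symm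

theorem eq_ofPi : T = D.ofPi (fun i => LinearMap.mulLeft F (AdjoinRoot.root (D.p i ^ D.e i))) := by
  refine LinearMap.ext fun x => D.Ψ.injective (funext fun i => ?_)
  simp only [ofPi, MonoidHom.coe_mk, OneHom.coe_mk, LinearEquiv.conj_apply, LinearMap.comp_apply,
    LinearEquiv.symm_symm, LinearEquiv.coe_coe, LinearEquiv.apply_symm_apply, piEnd_apply, LinearMap.mulLeft_apply]
  exact D.comm x i

theorem det_eq : LinearMap.det T =
    (-1) ^ Module.finrank F V * ∏ i, (D.p i).coeff 0 ^ D.e i := by
  conv_lhs => rw [D.eq_ofPi]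
  rw [det_ofPi, D.finrank_eq, ← Finset.prod_pow_eq_pow_sum, ← Finset.prod_mul_distrib]
  refine Finset.prod_congr rfl fun i _ => ?_
  rw [det_mulLeft_eq_norm, norm_root ((D.monic i).pow _), natDegree_pow]
  simp [coeff_zero_eq_eval_zero]

/-- The centraliser reaches every power of order an exponent. -/
theorem exists_comm_det [Finite F] (i : D.κ) (ν : Fˣ) :
    ∃ c : Module.End F V, c * T = T * c ∧ LinearMap.det c = (ν : F) ^ D.e i := by
  classical
  haveI : Fact (Irreducible (D.p i)) := ⟨D.irred i⟩
  haveI : Module.Finite F (AdjoinRoot (D.p i)) := finite_adjoinRoot (D.monic i)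
  haveI : Finite (AdjoinRoot (D.p i)) := Module.finite_of_finite F
  obtain ⟨w, hw⟩ := FiniteField.unitsMap_norm_surjective F (AdjoinRoot (D.p i)) ν
  obtain ⟨a, ha⟩ := AdjoinRoot.mk_surjective (g := D.p i) (w : AdjoinRoot (D.p i))
  let g : ∀ k, Module.End F (AdjoinRoot (D.p k ^ D.e k)) :=
    Pi.mulSingle i (LinearMap.mulLeft F (AdjoinRoot.mk (D.p i ^ D.e i) a))
  refine ⟨D.ofPi g, ?_, ?_⟩
  · suffices hc : D.ofPi g * D.ofPi (fun k => LinearMap.mulLeft F (AdjoinRoot.root (D.p k ^ D.e k))) =
        D.ofPi (fun k => LinearMap.mulLeft F (AdjoinRoot.root (D.p k ^ D.e k))) * D.ofPi g by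
      rwa [← D.eq_ofPi] at hc
    rw [← map_mul, ← map_mul]
    congr 1
    funext k
    rw [Pi.mul_apply, Pi.mul_apply]
    rcases eq_or_ne k i with rfl | hk
    · simp only [g, Pi.mulSingle_eq_same, Module.End.mul_eq_comp, ← LinearMap.mulLeft_mul]
      rw [mul_comm]
    · simp only [g, Pi.mulSingle_eq_of_ne hk, one_mul, mul_one]
  · rw [det_ofPi, Finset.prod_eq_single i (fun k _ hk => by
      simp only [g, Pi.mulSingle_eq_of_ne hk]
      exact LinearMap.det_id) (fun h => absurd (Finset.mem_univ i) h)]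
    simp only [g, Pi.mulSingle_eq_same, det_mulLeft_eq_norm, norm_mk_pow (D.monic i), ha]
    rw [← hw]
    rfl

open Classical in
/-- The primes of the blocks of exponent `k`. -/
noncomputable def part (k : ℕ) : Multiset F[X] := ((Finset.univ.filter fun i => D.e i = k).1).map D.p

theorem part_spec {k : ℕ} {P : F[X]} (h : P ∈ D.part k) : Irreducible P ∧ P.Monic := by
  obtain ⟨i, -, rfl⟩ := Multiset.mem_map.1 h
  exact ⟨D.irred i, D.monic i⟩

theorem count_part (k : ℕ) (P : F[X]) [DecidableEq F[X]] :
    (D.part k).count P = (Finset.univ.filter fun i => D.p i = P ∧ D.e i = k).card := by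
  classical
  rw [part, Multiset.count_map]
  simp only [Finset.card_def, Finset.filter_val, Multiset.filter_filter, eq_comm (a := P)]

/-- The dimension of the kernel of a prime power. -/
theorem kerDim_eq [FiniteDimensional F V] {P : F[X]} (hP : Irreducible P) (hPm : P.Monic) (j : ℕ)
    [DecidableEq F[X]] :
    Module.finrank F (LinearMap.ker (aeval T (P ^ j))) =
      P.natDegree * ∑ i ∈ Finset.univ.filter (fun i => D.p i = P), min j (D.e i) := by
  classical
  haveI : ∀ i, Module.Finite F (AdjoinRoot (D.p i ^ D.e i)) := fun i => finite_adjoinRoot ((D.monic i).pow _)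
  let M : ∀ i, AdjoinRoot (D.p i ^ D.e i) →ₗ[F] AdjoinRoot (D.p i ^ D.e i) :=
    fun i => LinearMap.mulLeft F (AdjoinRoot.mk (D.p i ^ D.e i) (P ^ j))
  have hker : Module.finrank F (LinearMap.ker (aeval T (P ^ j))) =
      ∑ i, Module.finrank F (LinearMap.ker (M i)) := by
    rw [← Module.finrank_pi_fintype F]
    have hmap : ∀ x, x ∈ LinearMap.ker (aeval T (P ^ j)) ↔ ∀ i, D.Ψ x i ∈ LinearMap.ker (M i) := by
      intro x
      simp only [LinearMap.mem_ker, M, LinearMap.mulLeft_apply, ← D.map_aeval]
      rw [← D.Ψ.map_eq_zero_iff, funext_iff]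
      rfl
    refine LinearEquiv.finrank_eq
      { toFun := fun x i => ⟨D.Ψ x.1 i, (hmap x.1).1 x.2 i⟩
        map_add' := fun x y => funext fun i => Subtype.ext (by simp)
        map_smul' := fun c x => funext fun i => Subtype.ext (by simp)
        invFun := fun y => ⟨D.Ψ.symm (fun i => (y i).1), (hmap _).2 fun i => by
          rw [D.Ψ.apply_symm_apply]
          exact (y i).2⟩
        left_inv := fun x => Subtype.ext (D.Ψ.symm_apply_apply x.1)
        right_inv := fun y => funext fun i => Subtype.ext
          (congrFun (D.Ψ.apply_symm_apply fun k => (y k).1) i) }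
  have hterm : ∀ i, Module.finrank F (LinearMap.ker (M i)) =
      if D.p i = P then P.natDegree * min j (D.e i) else 0 := by
    intro i
    split_ifs with hi
    · have hd : D.p i ^ (D.e i - j) ∣ D.p i ^ D.e i := pow_dvd_pow _ (Nat.sub_le _ _)
      let h : AdjoinRoot (D.p i ^ D.e i) →ₐ[F] AdjoinRoot (D.p i ^ (D.e i - j)) :=
        AdjoinRoot.liftAlgHom _ (Algebra.ofId F _) (AdjoinRoot.root (D.p i ^ (D.e i - j))) (by
          show eval₂ (algebraMap F _) _ _ = 0
          rw [← aeval_def, AdjoinRoot.aeval_eq, AdjoinRoot.mk_eq_zero]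
          exact hd)
      have hmk : ∀ b, h (AdjoinRoot.mk _ b) = AdjoinRoot.mk _ b := fun b => by
        rw [← AdjoinRoot.aeval_eq, ← aeval_algHom_apply]
        simp [h, AdjoinRoot.aeval_eq]
      have hkereq : LinearMap.ker (M i) = LinearMap.ker h.toLinearMap := by
        ext x
        obtain ⟨b, rfl⟩ := AdjoinRoot.mk_surjective x
        simp only [LinearMap.mem_ker, M, LinearMap.mulLeft_apply, ← map_mul, AlgHom.toLinearMap_apply, hmk,
          AdjoinRoot.mk_eq_zero]
        rw [← hi]
        rcases le_total j (D.e i) with hj | hj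
        · conv_lhs => rw [show D.e i = j + (D.e i - j) by omega, pow_add]
          exact mul_dvd_mul_iff_left (pow_ne_zero _ (D.irred i).ne_zero)
        · rw [Nat.sub_eq_zero_of_le hj, pow_zero]
          exact iff_of_true ((pow_dvd_pow _ hj).mul_right b) (one_dvd _)
      haveI := finite_adjoinRoot ((D.monic i).pow (D.e i - j))
      have hrn := h.toLinearMap.finrank_range_add_finrank_ker
      rw [LinearMap.range_eq_top.2 (fun y => ?_), finrank_top, finrank_adjoinRoot ((D.monic i).pow _),
        finrank_adjoinRoot ((D.monic i).pow _), natDegree_pow, natDegree_pow,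
        show (D.p i).natDegree = P.natDegree from congrArg natDegree hi] at hrn
      · rw [hkereq]
        have : (D.e i - j + min j (D.e i)) * P.natDegree = D.e i * P.natDegree := by
          congr 1; omega
        rw [add_mul] at this
        rw [mul_comm P.natDegree]
        omega
      · obtain ⟨b, rfl⟩ := AdjoinRoot.mk_surjective y
        exact ⟨AdjoinRoot.mk _ b, hmk b⟩
    · rw [Submodule.finrank_eq_zero, LinearMap.ker_eq_bot']
      intro x hx
      have hcop : IsCoprime (P ^ j) (D.p i ^ D.e i) := (hP.coprime_iff_not_dvd.2 fun hdvd =>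
        hi (eq_of_monic_of_associated (D.monic i) hPm (hP.associated_of_dvd (D.irred i) hdvd).symm)).pow
      obtain ⟨a, b, hab⟩ := hcop
      have h1 := congrArg (AdjoinRoot.mk (D.p i ^ D.e i)) hab
      rw [map_add, map_mul, map_mul, AdjoinRoot.mk_self, mul_zero, add_zero, map_one] at h1
      simp only [M, LinearMap.mulLeft_apply] at hx
      rw [← one_mul x, ← h1, mul_assoc, hx, mul_zero]
  rw [hker, Finset.sum_congr rfl fun i _ => hterm i, Finset.mul_sum, Finset.sum_filter]

/-- The kernels of the prime powers determine the parts. -/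
theorem part_eq {W : Type*} [AddCommGroup W] [Module F W] [FiniteDimensional F V] [FiniteDimensional F W]
    {T' : Module.End F W} (D' : Decomp T') (σ : F[X] → F[X]) (hσ : Function.Injective σ)
    (hσP : ∀ P, Irreducible P → P.Monic → Irreducible (σ P) ∧ (σ P).Monic ∧ (σ P).natDegree = P.natDegree)
    (hσs : ∀ Q, Irreducible Q → Q.Monic → ∃ P, Irreducible P ∧ P.Monic ∧ σ P = Q)
    (h : ∀ P, Irreducible P → P.Monic → ∀ j,
      Module.finrank F (LinearMap.ker (aeval T' (σ P ^ j))) = Module.finrank F (LinearMap.ker (aeval T (P ^ j))))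
    (k : ℕ) (hk : k ≠ 0) : D'.part k = (D.part k).map σ := by
  classical
  refine Multiset.ext.2 fun Q => ?_
  by_cases hQ : Irreducible Q ∧ Q.Monic
  · obtain ⟨P, hP, hPm, rfl⟩ := hσs Q hQ.1 hQ.2
    obtain ⟨hP', hPm', hd⟩ := hσP P hP hPm
    rw [Multiset.count_map_eq_count' σ _ hσ, count_part, count_part]
    have hS : ∀ j, ∑ i ∈ Finset.univ.filter (fun i => D'.p i = σ P), min j (D'.e i) =
        ∑ i ∈ Finset.univ.filter (fun i => D.p i = P), min j (D.e i) := by
      intro j
      have := h P hP hPm j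
      rw [D'.kerDim_eq hP' hPm', D.kerDim_eq hP hPm, hd] at this
      exact Nat.eq_of_mul_eq_mul_left hP.natDegree_pos this
    have key : ∀ {ι : Type u} (s : Finset ι) (e : ι → ℕ), 2 * ∑ i ∈ s, min k (e i) =
        (s.filter fun i => e i = k).card + ∑ i ∈ s, min (k - 1) (e i) + ∑ i ∈ s, min (k + 1) (e i) := by
      intro ι s e
      rw [Finset.mul_sum, Finset.card_filter, ← Finset.sum_add_distrib, ← Finset.sum_add_distrib]
      refine Finset.sum_congr rfl fun i _ => ?_
      split_ifs <;> omega
    have h1 := key (Finset.univ.filter fun i => D'.p i = σ P) D'.e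
    have h2 := key (Finset.univ.filter fun i => D.p i = P) D.e
    rw [hS, hS, hS, Finset.filter_filter] at h1
    rw [Finset.filter_filter] at h2
    omega
  · rw [Multiset.count_eq_zero_of_notMem fun hm => hQ (D'.part_spec hm), eq_comm]
    refine Multiset.count_eq_zero_of_notMem fun hm => hQ ?_
    obtain ⟨P, hP, rfl⟩ := Multiset.mem_map.1 hm
    exact ⟨(hσP P (D.part_spec hP).1 (D.part_spec hP).2).1, (hσP P (D.part_spec hP).1 (D.part_spec hP).2).2.1⟩

/-- Endomorphisms with equal parts are similar. -/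
theorem similar {T' : Module.End F V} (D' : Decomp T') (h : ∀ k, D.part k = D'.part k) :
    ∃ c : V ≃ₗ[F] V, ∀ x, c (T x) = T' (c x) := by
  classical
  have hcard : ∀ y : F[X] × ℕ, Nonempty ({i // (D.p i, D.e i) = y} ≃ {i // (D'.p i, D'.e i) = y}) := by
    intro y
    refine ⟨Fintype.equivOfCardEq ?_⟩
    rw [Fintype.card_subtype, Fintype.card_subtype]
    simp only [Prod.ext_iff, ← count_part, h]
  let σ : D.κ ≃ D'.κ := Equiv.ofFiberEquiv fun y => (hcard y).some
  have hσ : ∀ i, (D'.p (σ i), D'.e (σ i)) = (D.p i, D.e i) :=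
    fun i => Equiv.ofFiberEquiv_map (fun y => (hcard y).some) i
  have hf : ∀ k : D'.κ, D.p (σ.symm k) ^ D.e (σ.symm k) = D'.p k ^ D'.e k := by
    intro k
    have := hσ (σ.symm k)
    rw [σ.apply_symm_apply, Prod.ext_iff] at this
    obtain ⟨h1, h2⟩ := this
    dsimp only at h1 h2
    rw [h1, h2]
  have hiso : ∀ (f f' : F[X]), f = f' →
      ∃ a : AdjoinRoot f ≃ₐ[F] AdjoinRoot f', a (AdjoinRoot.root f) = AdjoinRoot.root f' := by
    rintro f _ rfl
    exact ⟨AlgEquiv.refl, rfl⟩
  choose a ha using fun k => hiso _ _ (hf k)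
  let E : (∀ i, AdjoinRoot (D.p i ^ D.e i)) ≃ₗ[F] (∀ k, AdjoinRoot (D'.p k ^ D'.e k)) :=
    (LinearEquiv.piCongrLeft' F (fun i => AdjoinRoot (D.p i ^ D.e i)) σ).trans
      (LinearEquiv.piCongrRight fun k => (a k).toLinearEquiv)
  refine ⟨D.Ψ.trans (E.trans D'.Ψ.symm), fun x => D'.Ψ.injective (funext fun k => ?_)⟩
  simp only [LinearEquiv.trans_apply, LinearEquiv.apply_symm_apply, D'.comm, E, LinearEquiv.piCongrRight_apply,
    LinearEquiv.piCongrLeft'_apply, AlgEquiv.toLinearEquiv_apply, D.comm, map_mul, ha]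

end Decomp

end Cfsg.Agent.Small.ClassNumber
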