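import Cfsg.Agent.Lib.Small.ClassNumber.Bound

/-!
Numerical bounds on the sums of squared exponents.
-/

set_option autoImplicit false
set_option linter.style.haveILetI false
set_option linter.unusedSectionVars false

namespace Cfsg.Agent.Small.ClassNumber

open Polynomial

universe u

variable {F : Type u} [Field F] [Fintype F]

theorem numT_stable {M m : ℕ} (h : m ≤ M) : numT F M m = numT F m m := by
  induction M with
  | zero => rw [Nat.le_zero.1 h]
  | succ M ih =>
    rcases Nat.lt_or_ge M m with hlt | hge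
    · rw [show m = M + 1 by omega]
    · rw [numT_succ, if_neg (by omega), add_zero, ih hge]

theorem numT_le_pow (m : ℕ) : numT F m m ≤ Fintype.card F ^ m := (numT_le F m m).1

theorem hdata_dvd_weight {M m : ℕ} (H : SeqT F M m) : hdata H.1 ∣ m := by
  conv_rhs => rw [← H.2.2]
  refine Finset.dvd_sum fun k _ => ?_
  by_cases h : (H.1 k).natDegree = 0
  · simp [h]
  · exact (hdata_dvd_of_support h).mul_right _

open Classical in
theorem card_hdata_le {M m h : ℕ} (hh : 0 < h) (hm : m ≤ M) :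
    (Finset.univ.filter fun H : SeqT F M m => hdata H.1 = h).card ≤ numT F (m / h) (m / h) := by
  rw [← numT_stable (F := F) (M := M / h) (Nat.div_le_div_right hm), numT, ← Nat.card_eq_finsetCard]
  have hidx : ∀ j : Fin (M / h), h * (j.val + 1) - 1 < M := fun j => by
    have h1 : h * (j.val + 1) ≤ h * (M / h) := Nat.mul_le_mul_left h (Nat.succ_le_of_lt j.isLt)
    have h2 := Nat.mul_div_le M h
    have h3 : 1 ≤ h * (j.val + 1) := Nat.one_le_iff_ne_zero.2 (by positivity)
    omega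
  let σ : Fin (M / h) → Fin M := fun j => ⟨h * (j.val + 1) - 1, hidx j⟩
  have hσ : ∀ j, (σ j).val + 1 = h * (j.val + 1) := fun j =>
    Nat.sub_add_cancel (Nat.one_le_iff_ne_zero.2 (by positivity))
  have hσi : Function.Injective σ := fun a b hab => by
    have := congrArg (fun k : Fin M => k.val + 1) hab
    simp only [hσ] at this
    exact Fin.ext (by have := Nat.eq_of_mul_eq_mul_left hh this; omega)
  have hout : ∀ H : {H // H ∈ Finset.univ.filter fun H : SeqT F M m => hdata H.1 = h}, ∀ k,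
      (∀ j, σ j ≠ k) → (H.1.1 k).natDegree = 0 := by
    intro H k hk
    by_contra hd
    obtain ⟨c, hc⟩ := (Finset.mem_filter.1 H.2).2 ▸ hdata_dvd_of_support hd
    have hc0 : c ≠ 0 := fun h0 => by rw [h0, mul_zero] at hc; omega
    have hcM : c ≤ M / h := (Nat.le_div_iff_mul_le hh).2 (by rw [mul_comm, ← hc]; omega)
    refine hk ⟨c - 1, by omega⟩ (Fin.ext ?_)
    have := hσ ⟨c - 1, by omega⟩
    simp only [Nat.sub_add_cancel (Nat.one_le_iff_ne_zero.2 hc0)] at this
    omega
  refine Nat.card_le_card_of_injective (fun H => (⟨fun j => H.1.1 (σ j), fun j => H.1.2.1 _, ?_⟩ :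
    SeqT F (M / h) (m / h))) ?_
  · symm
    refine Nat.div_eq_of_eq_mul_left hh ?_
    conv_lhs => rw [← H.1.2.2]
    rw [wdeg, wdeg, Finset.sum_mul, ← Finset.sum_subset (Finset.subset_univ (Finset.univ.image σ))
      (fun k _ hk => ?_), Finset.sum_image (fun a _ b _ hab => hσi hab)]
    · refine Finset.sum_congr rfl fun j _ => ?_
      rw [hσ]; ring
    · rw [hout H k (fun j hj => hk (Finset.mem_image.2 ⟨j, Finset.mem_univ j, hj⟩)), mul_zero]
  · intro H H' hHH
    refine Subtype.ext (Subtype.ext (_root_.funext fun k => ?_))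
    by_cases hk : ∃ j, σ j = k
    · obtain ⟨j, rfl⟩ := hk
      exact congrFun (congrArg Subtype.val hHH) j
    · simp only [not_exists] at hk
      rw [eq_one_of_natDegree_zero (H.1.2.1 k).1 (hout H k hk),
        eq_one_of_natDegree_zero (H'.1.2.1 k).1 (hout H' k hk)]

/-- Splitting by exponent. -/
theorem sqSum_le {M m : ℕ} (hm1 : 1 ≤ m) (hm : m ≤ M) :
    sqSum F M m ≤ numT F m m +
      ∑ h ∈ (Nat.gcd m (Fintype.card F - 1)).divisors.erase 1, (h ^ 2 - 1) * numT F (m / h) (m / h) := by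
  classical
  have hsplit : ∀ H : SeqT F M m, hdata H.1 ^ 2 = 1 + (hdata H.1 ^ 2 - 1) := fun H => by
    have : 1 ≤ hdata H.1 ^ 2 := Nat.one_le_pow _ _ (hdata_pos _)
    omega
  rw [sqSum, Finset.sum_congr rfl fun H _ => hsplit H, Finset.sum_add_distrib, ← Finset.card_eq_sum_ones,
    Finset.card_univ, ← Nat.card_eq_fintype_card]
  refine add_le_add (le_of_eq ?_) ?_
  · rw [← numT_stable (F := F) hm]
    rfl
  · rw [← Finset.sum_fiberwise_of_maps_to (t := (Nat.gcd m (Fintype.card F - 1)).divisors)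
      (fun H _ => Nat.mem_divisors.2 ⟨Nat.dvd_gcd (hdata_dvd_weight H) (hdata_dvd H.1),
        (Nat.gcd_pos_of_pos_left _ hm1).ne'⟩) (fun H : SeqT F M m => hdata H.1 ^ 2 - 1),
      ← Finset.sum_erase (a := 1) _ (Finset.sum_eq_zero fun H hH => by rw [(Finset.mem_filter.1 hH).2, one_pow, Nat.sub_self])]
    refine Finset.sum_le_sum fun h hh => ?_
    rw [Finset.sum_congr rfl fun H hH => by rw [(Finset.mem_filter.1 hH).2], Finset.sum_const, smul_eq_mul,
      mul_comm]
    exact Nat.mul_le_mul_left _ (card_hdata_le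
      (Nat.pos_of_mem_divisors (Finset.mem_of_mem_erase hh)) hm)

theorem mem_range_divisors {g h : ℕ} (hh : h ∈ g.divisors.erase 1) : 2 ≤ h ∧ h ∣ g := by
  rw [Finset.mem_erase, Nat.mem_divisors] at hh
  have := Nat.pos_of_dvd_of_pos hh.2.1 (Nat.pos_of_ne_zero hh.2.2)
  exact ⟨by omega, hh.2.1⟩

theorem sqSum_one {M : ℕ} (hM : 1 ≤ M) : sqSum F M 1 ≤ Fintype.card F - 1 := by
  refine (sqSum_le le_rfl hM).trans ?_
  rw [Nat.gcd_one_left, Nat.divisors_one, Finset.erase_singleton, Finset.sum_empty, add_zero, numT_one]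

theorem sum_erase_one_le {g : ℕ} (S : Finset ℕ) (f : ℕ → ℕ) (h : ∀ d, 2 ≤ d → d ∣ g → d ∈ S) :
    ∑ d ∈ g.divisors.erase 1, f d ≤ ∑ d ∈ S, f d :=
  Finset.sum_le_sum_of_subset fun d hd => h d (mem_range_divisors hd).1 (mem_range_divisors hd).2

theorem sqSum_two {M : ℕ} (hM : 2 ≤ M) :
    sqSum F M 2 ≤ (Fintype.card F - 1) * (Fintype.card F + 4) ∧
      (Fintype.card F = 2 → sqSum F M 2 ≤ 3) := by
  have h0 := sqSum_le (F := F) one_le_two hM
  have hA := numT_diag_lt F (n := 2) one_le_two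
  refine ⟨h0.trans ?_, fun hq => h0.trans ?_⟩
  · refine le_trans (add_le_add le_rfl (sum_erase_one_le {2} _ fun d h2 hd => ?_)) ?_
    · have := Nat.le_of_dvd (by norm_num) (hd.trans (Nat.gcd_dvd_left _ _))
      simp; omega
    · rw [Finset.sum_singleton, show (2 : ℕ) / 2 = 1 from rfl, numT_one]
      obtain ⟨p, hp⟩ : ∃ p, Fintype.card F = p + 2 := ⟨Fintype.card F - 2, by
        have : 1 < Fintype.card F := Fintype.one_lt_card
        omega⟩
      rw [hp] at hA ⊢
      rw [show p + 2 - 1 = p + 1 by omega, show (2 : ℕ) ^ 2 - 1 = 3 from rfl]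
      nlinarith
  · rw [hq] at hA ⊢
    simp only [Nat.reduceSub, Nat.gcd_one_right, Nat.divisors_one, Finset.erase_singleton, Finset.sum_empty]
    omega

theorem sum_sq_divisors_le {N : ℕ} (hN : 0 < N) :
    8 * ∑ d ∈ N.divisors, d ^ 2 ≤ 8 * N ^ 2 + N ^ 3 := by
  rw [← Finset.add_sum_erase _ _ (Nat.mem_divisors_self N hN.ne'), Nat.mul_add]
  refine Nat.add_le_add le_rfl ?_
  have hle : ∀ d ∈ N.divisors.erase N, 1 ≤ d ∧ d ≤ N / 2 := by
    intro d hd
    rw [Finset.mem_erase, Nat.mem_divisors] at hd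
    obtain ⟨c, hc⟩ := hd.2.1
    have hd0 := Nat.pos_of_dvd_of_pos hd.2.1 hN
    rcases Nat.lt_or_ge c 2 with hc2 | hc2
    · interval_cases c
      · omega
      · exact absurd (by rw [hc, mul_one]) hd.1
    · refine ⟨hd0, (Nat.le_div_iff_mul_le two_pos).2 ?_⟩
      rw [hc]
      exact Nat.mul_le_mul_left d hc2
  have h1 : ∑ d ∈ N.divisors.erase N, d ^ 2 ≤ (N / 2) * (N / 2) ^ 2 := by
    calc ∑ d ∈ N.divisors.erase N, d ^ 2 ≤ ∑ d ∈ Finset.Icc 1 (N / 2), d ^ 2 :=
          Finset.sum_le_sum_of_subset fun d hd => Finset.mem_Icc.2 (hle d hd)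
      _ ≤ (Finset.Icc 1 (N / 2)).card • (N / 2) ^ 2 :=
          Finset.sum_le_card_nsmul _ _ _ fun d hd => Nat.pow_le_pow_left (Finset.mem_Icc.1 hd).2 2
      _ = (N / 2) * (N / 2) ^ 2 := by rw [Nat.card_Icc, smul_eq_mul, Nat.add_sub_cancel]
  calc 8 * ∑ d ∈ N.divisors.erase N, d ^ 2 ≤ 8 * ((N / 2) * (N / 2) ^ 2) := Nat.mul_le_mul_left 8 h1
    _ = (2 * (N / 2)) ^ 3 := by ring
    _ ≤ N ^ 3 := Nat.pow_le_pow_left (Nat.mul_div_le N 2) 3

theorem sqSum_three_le {M m : ℕ} (h3 : 3 ≤ m) (hM : m ≤ M) :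
    sqSum F M m ≤ (Fintype.card F - 1) * (Fintype.card F ^ (m - 1) + 3 * Fintype.card F ^ (m - 2)) := by
  obtain ⟨q, hq⟩ : ∃ q, q = Fintype.card F := ⟨_, rfl⟩
  have hq1 : 1 < q := hq ▸ Fintype.one_lt_card
  obtain ⟨p, rfl⟩ : ∃ p, q = p + 1 := ⟨q - 1, by omega⟩
  have h0 := sqSum_le (F := F) (by omega) hM
  rw [← hq] at h0 ⊢
  rw [Nat.add_sub_cancel] at h0 ⊢
  have hA := numT_le_pow (F := F)
  simp only [← hq] at hA
  refine h0.trans ?_
  rcases (show m = 3 ∨ m = 4 ∨ 5 ≤ m by omega) with rfl | rfl | h5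
  · have h33 := numT_three (F := F)
    rw [← hq] at h33
    have h11 := numT_one (F := F)
    rw [← hq, Nat.add_sub_cancel] at h11
    by_cases hd : 3 ∣ p
    · have hp3 := Nat.le_of_dvd (by omega) hd
      have h := sum_erase_one_le (g := Nat.gcd 3 p) {3} (fun h => (h ^ 2 - 1) * numT F (3 / h) (3 / h))
        fun d h2 hdd => by
          have h4 := Nat.le_of_dvd (by norm_num) (hdd.trans (Nat.gcd_dvd_left _ _))
          interval_cases d
          · exact absurd (hdd.trans (Nat.gcd_dvd_left _ _)) (by norm_num)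
          · simp
      rw [Finset.sum_singleton, show (3 : ℕ) / 3 = 1 from rfl, h11] at h
      norm_num at h ⊢
      nlinarith
    · have hg : Nat.gcd 3 p = 1 := (Nat.prime_three.coprime_iff_not_dvd.2 hd)
      rw [hg, Nat.divisors_one, Finset.erase_singleton, Finset.sum_empty]
      norm_num
      nlinarith
  · have h44 := numT_diag_lt F (n := 4) (by norm_num)
    have h22 := numT_diag_lt F (n := 2) one_le_two
    have h11 := numT_one (F := F)
    rw [← hq] at h44 h22
    rw [← hq, Nat.add_sub_cancel] at h11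
    by_cases h4d : 4 ∣ p
    · have hp4 := Nat.le_of_dvd (by omega) h4d
      have h := sum_erase_one_le (g := Nat.gcd 4 p) {2, 4} (fun h => (h ^ 2 - 1) * numT F (4 / h) (4 / h))
        fun d h2 hdd => by
          have h4 := Nat.le_of_dvd (by norm_num) (hdd.trans (Nat.gcd_dvd_left _ _))
          interval_cases d
          · simp
          · exact absurd (hdd.trans (Nat.gcd_dvd_left _ _)) (by norm_num)
          · simp
      rw [Finset.sum_pair (by norm_num), show (4 : ℕ) / 4 = 1 from rfl, show (4 : ℕ) / 2 = 2 from rfl, h11] at h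
      norm_num at h ⊢
      nlinarith
    · by_cases h2d : 2 ∣ p
      · have hp2 := Nat.le_of_dvd (by omega) h2d
        have h := sum_erase_one_le (g := Nat.gcd 4 p) {2} (fun h => (h ^ 2 - 1) * numT F (4 / h) (4 / h))
          fun d h2 hdd => by
            have h4 := Nat.le_of_dvd (by norm_num) (hdd.trans (Nat.gcd_dvd_left _ _))
            interval_cases d
            · simp
            · exact absurd (hdd.trans (Nat.gcd_dvd_left _ _)) (by norm_num)
            · exact absurd (hdd.trans (Nat.gcd_dvd_right _ _)) h4d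
        rw [Finset.sum_singleton, show (4 : ℕ) / 2 = 2 from rfl] at h
        norm_num at h ⊢
        nlinarith
      · have hc : Nat.Coprime (2 ^ 2) p := ((Nat.prime_two.coprime_iff_not_dvd.2 h2d)).pow_left 2
        rw [show Nat.gcd 4 p = 1 from hc, Nat.divisors_one, Finset.erase_singleton, Finset.sum_empty]
        norm_num
        nlinarith
  · classical
    rw [← Finset.sum_filter_add_sum_filter_not _ (fun h => h = 2)]
    have hX := Nat.mul_le_mul_left 8 (hA m)
    obtain ⟨k, rfl⟩ : ∃ k, m = k + 2 := ⟨m - 2, by omega⟩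
    rw [show k + 2 - 1 = k + 1 by omega, Nat.add_sub_cancel]
    have hpow2 : ∀ h, (h ^ 2 - 1) * numT F ((k + 2) / h) ((k + 2) / h) ≤
        h ^ 2 * (p + 1) ^ ((k + 2) / h) := fun h => Nat.mul_le_mul (Nat.sub_le _ _) (hA _)
    have htwo : ∑ h ∈ ((Nat.gcd (k + 2) p).divisors.erase 1).filter (fun h => h = 2),
        (h ^ 2 - 1) * numT F ((k + 2) / h) ((k + 2) / h) ≤ (p + 1) ^ (k + 1) := by
      rw [Finset.filter_eq']
      split_ifs with h2
      · rw [Finset.sum_singleton]
        have hp2 : 2 ≤ p := Nat.le_of_dvd (by omega) ((mem_range_divisors h2).2.trans (Nat.gcd_dvd_right _ _))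
        calc (2 ^ 2 - 1) * numT F ((k + 2) / 2) ((k + 2) / 2) ≤ (p + 1) * (p + 1) ^ ((k + 2) / 2) :=
              Nat.mul_le_mul (by omega) (hA _)
          _ = (p + 1) ^ ((k + 2) / 2 + 1) := by ring
          _ ≤ (p + 1) ^ (k + 1) := Nat.pow_le_pow_right (by omega) (by omega)
      · rw [Finset.sum_empty]; exact Nat.zero_le _
    have hrest : ∑ h ∈ ((Nat.gcd (k + 2) p).divisors.erase 1).filter (fun h => ¬ h = 2),
        (h ^ 2 - 1) * numT F ((k + 2) / h) ((k + 2) / h) + 3 * (p + 1) ^ k ≤ (p + 1) ^ (k + 1) ∨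
        ∑ h ∈ ((Nat.gcd (k + 2) p).divisors.erase 1).filter (fun h => ¬ h = 2),
        (h ^ 2 - 1) * numT F ((k + 2) / h) ((k + 2) / h) = 0 := by
      rcases (((Nat.gcd (k + 2) p).divisors.erase 1).filter (fun h => ¬ h = 2)).eq_empty_or_nonempty with he | hne
      · exact Or.inr (by rw [he, Finset.sum_empty])
      · refine Or.inl ?_
        obtain ⟨d, hd⟩ := hne
        obtain ⟨hd', hd2⟩ := Finset.mem_filter.1 hd
        have hd3 : 3 ≤ d := by have := (mem_range_divisors hd').1; omega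
        have hp3 : 3 ≤ p := hd3.trans (Nat.le_of_dvd (by omega)
          ((mem_range_divisors hd').2.trans (Nat.gcd_dvd_right _ _)))
        have hk3 : (k + 2) / 3 + 2 ≤ k := by omega
        have h1 : ∑ h ∈ ((Nat.gcd (k + 2) p).divisors.erase 1).filter (fun h => ¬ h = 2),
            (h ^ 2 - 1) * numT F ((k + 2) / h) ((k + 2) / h) ≤
            (∑ h ∈ p.divisors, h ^ 2) * (p + 1) ^ ((k + 2) / 3) := by
          rw [Finset.sum_mul]
          refine le_trans (Finset.sum_le_sum fun h hh => ?_) (Finset.sum_le_sum_of_subset fun h hh =>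
            Nat.mem_divisors.2 ⟨(mem_range_divisors (Finset.mem_filter.1 hh).1).2.trans (Nat.gcd_dvd_right _ _),
              by omega⟩)
          obtain ⟨hh', hh2⟩ := Finset.mem_filter.1 hh
          have hh3 : 3 ≤ h := by have := (mem_range_divisors hh').1; omega
          exact (hpow2 h).trans (Nat.mul_le_mul_left _
            (Nat.pow_le_pow_right (by omega) (Nat.div_le_div_left hh3 (by norm_num))))
        have h2 := sum_sq_divisors_le (N := p) (by omega)
        have h3 : ∑ h ∈ p.divisors, h ^ 2 + 3 * (p + 1) ^ 2 ≤ (p + 1) ^ 3 := by nlinarith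
        have h4 : (p + 1) ^ k = (p + 1) ^ ((k + 2) / 3) * (p + 1) ^ 2 * (p + 1) ^ (k - ((k + 2) / 3 + 2)) := by
          rw [← pow_add, ← pow_add]; congr 1; omega
        have h5 : 1 ≤ (p + 1) ^ (k - ((k + 2) / 3 + 2)) := Nat.one_le_pow _ _ (by omega)
        rw [pow_succ, h4]
        calc _ ≤ (∑ h ∈ p.divisors, h ^ 2) * (p + 1) ^ ((k + 2) / 3) *
              (p + 1) ^ (k - ((k + 2) / 3 + 2)) +
              3 * ((p + 1) ^ ((k + 2) / 3) * (p + 1) ^ 2 * (p + 1) ^ (k - ((k + 2) / 3 + 2))) :=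
              Nat.add_le_add_right (h1.trans (Nat.le_mul_of_pos_right _ h5)) _
          _ = (∑ h ∈ p.divisors, h ^ 2 + 3 * (p + 1) ^ 2) *
              ((p + 1) ^ ((k + 2) / 3) * (p + 1) ^ (k - ((k + 2) / 3 + 2))) := by ring
          _ ≤ (p + 1) ^ 3 * ((p + 1) ^ ((k + 2) / 3) * (p + 1) ^ (k - ((k + 2) / 3 + 2))) :=
              Nat.mul_le_mul_right _ h3
          _ = _ := by ring
    have hm1 : (p + 1) ^ (k + 1) = (p + 1) ^ k * (p + 1) := pow_succ _ _
    have hm2 : (p + 1) ^ (k + 2) = (p + 1) ^ k * (p + 1) * (p + 1) := by rw [pow_succ, pow_succ]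
    rw [hm1] at htwo hrest ⊢
    rw [hm2] at hX
    rcases hrest with hr | hr
    · nlinarith
    · rw [hr]
      rcases eq_or_ne p 1 with rfl | hp1
      · have hz : ((Nat.gcd (k + 2) 1).divisors.erase 1).filter (fun h => h = 2) = ∅ := by simp
        rw [hz, Finset.sum_empty] at htwo ⊢
        norm_num at hX ⊢
        omega
      · have : (p + 1) ^ k * 3 ≤ (p + 1) ^ k * (p + 1) := Nat.mul_le_mul_left _ (by omega)
        nlinarith

end Cfsg.Agent.Small.ClassNumber
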