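import Cfsg.Agent.Lib.Small.ClassNumber.Inv

/-!
Conjugacy classes of the special linear group fixed by central elements, counted by parameters.
-/

set_option autoImplicit false
set_option linter.style.haveILetI false
set_option linter.unusedSectionVars false

namespace Cfsg.Agent.Small.ClassNumber

open Polynomial

universe u

variable {F : Type u} [Field F] [Fintype F]

noncomputable instance fintype_seqT (M m : ℕ) : Fintype (SeqT F M m) := Fintype.ofFinite _

/-- The weighted product of the constant terms. -/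
noncomputable def pdata {M : ℕ} (G : Fin M → F[X]) : F := ∏ k, (G k).coeff 0 ^ (k.val + 1)

variable (F) in
/-- The sum of the squares of the common exponents. -/
noncomputable def sqSum (M m : ℕ) : ℕ := ∑ H : SeqT F M m, hdata H.1 ^ 2

theorem hdata_dvd {M : ℕ} (G : Fin M → F[X]) : hdata G ∣ Fintype.card F - 1 := Nat.gcd_dvd_left _ _

theorem hdata_pos {M : ℕ} (G : Fin M → F[X]) : 0 < hdata G :=
  Nat.gcd_pos_of_pos_left _ (Nat.sub_pos_of_lt Fintype.one_lt_card)

theorem hdata_dvd_of_support {M : ℕ} {G : Fin M → F[X]} {k : Fin M} (hk : (G k).natDegree ≠ 0) :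
    hdata G ∣ k.val + 1 := by
  classical
  exact (Nat.gcd_dvd_right _ _).trans (Finset.gcd_dvd (Finset.mem_filter.2 ⟨Finset.mem_univ k, hk⟩))

theorem card_quotient_pow {h : ℕ} (hh : h ∣ Fintype.card F - 1) :
    Nat.card (Fˣ ⧸ (powMonoidHom h : Fˣ →* Fˣ).range) = h := by
  rw [← Subgroup.index_eq_card, IsCyclic.index_powMonoidHom_range, Nat.card_units, Nat.card_eq_fintype_card,
    Nat.gcd_eq_right hh]

/-- Scaling the constant terms. -/
noncomputable def setConst {M : ℕ} (G : Fin M → F[X]) (l : Fin M → Fˣ) : Fin M → F[X] :=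
  fun k => if (G k).natDegree = 0 then G k else G k + C (((l k : F) - 1) * (G k).coeff 0)

theorem setConst_spec {M : ℕ} (G : Fin M → F[X]) (l : Fin M → Fˣ) (hG : ∀ k, (G k).Monic ∧ (G k).coeff 0 ≠ 0)
    (k : Fin M) : (setConst G l k).Monic ∧ (setConst G l k).natDegree = (G k).natDegree ∧
      (setConst G l k).coeff 0 = (if (G k).natDegree = 0 then 1 else (l k : F)) * (G k).coeff 0 ∧
      (setConst G l k).coeff 0 ≠ 0 := by
  unfold setConst
  split_ifs with h
  · exact ⟨(hG k).1, rfl, by rw [one_mul], (hG k).2⟩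
  · have hc : (G k + C (((l k : F) - 1) * (G k).coeff 0)).coeff 0 = (l k : F) * (G k).coeff 0 := by
      rw [coeff_add, coeff_C_zero]; ring
    refine ⟨(hG k).1.add_of_left ?_, natDegree_add_C, hc, by rw [hc]; exact mul_ne_zero (l k).ne_zero (hG k).2⟩
    refine lt_of_le_of_lt degree_C_le ?_
    rw [← natDegree_pos_iff_degree_pos]
    omega

theorem setConst_injective {M : ℕ} {G G' : Fin M → F[X]} (l : Fin M → Fˣ)
    (hG : ∀ k, (G k).Monic ∧ (G k).coeff 0 ≠ 0) (hG' : ∀ k, (G' k).Monic ∧ (G' k).coeff 0 ≠ 0)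
    (h : setConst G l = setConst G' l) : G = G' := by
  funext k
  have hk := congrFun h k
  have hd : (G k).natDegree = (G' k).natDegree := by
    rw [← (setConst_spec G l hG k).2.1, hk, (setConst_spec G' l hG' k).2.1]
  have hc := (setConst_spec G l hG k).2.2.1
  rw [hk, (setConst_spec G' l hG' k).2.2.1, hd] at hc
  have h0 : (G k).coeff 0 = (G' k).coeff 0 := by
    refine mul_left_cancel₀ ?_ hc.symm
    split_ifs
    · exact one_ne_zero
    · exact (l k).ne_zero
  unfold setConst at hk
  rw [hd] at hk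
  split_ifs at hk with h'
  · exact hk
  · rw [h0] at hk
    exact add_right_cancel hk

/-- Fixing the weighted product costs a factor of the order of the multiplicative group. -/
theorem sum_fixed_pdata_le (M m : ℕ) (c : F) [DecidablePred fun H : SeqT F M m => pdata H.1 = c] :
    (Fintype.card F - 1) * ∑ H ∈ Finset.univ.filter (fun H : SeqT F M m => pdata H.1 = c), hdata H.1 ≤
      sqSum F M m := by
  classical
  have hex : ∀ (S : Finset (Fin M)) (μ : Fˣ), ∃ l : Fin M → Fˣ, ∀ G : Fin M → F[X],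
      (Finset.univ.filter fun k => (G k).natDegree ≠ 0) = S → ∏ k ∈ S, l k ^ (k.val + 1) = μ ^ hdata G := by
    intro S μ
    by_cases hS : ∃ G : Fin M → F[X], (Finset.univ.filter fun k => (G k).natDegree ≠ 0) = S
    · obtain ⟨G, hG⟩ := hS
      let φ : (Fin M → Fˣ) →* Fˣ :=
        { toFun := fun l => ∏ k ∈ S, l k ^ (k.val + 1)
          map_one' := by simp
          map_mul' := fun a b => by simp [mul_pow, Finset.prod_mul_distrib] }
      obtain ⟨l, hl⟩ : μ ^ hdata G ∈ φ.range := pow_hdata_mem G φ.range (fun k hk ν =>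
        ⟨Pi.mulSingle k ν, by
          show ∏ j ∈ S, (Pi.mulSingle k ν : Fin M → Fˣ) j ^ (j.val + 1) = ν ^ (k.val + 1)
          rw [Finset.prod_eq_single k (fun j _ hj => by rw [Pi.mulSingle_eq_of_ne hj, one_pow])
            (fun h => absurd (hG ▸ Finset.mem_filter.2 ⟨Finset.mem_univ k, hk⟩) h), Pi.mulSingle_eq_same]⟩) μ
      exact ⟨l, fun G' hG' => hl.trans (by rw [hdata, hdata, hG, hG'])⟩
    · exact ⟨1, fun G hG => absurd ⟨G, hG⟩ hS⟩
  choose lam hlam using hex
  let S : (Fin M → F[X]) → Finset (Fin M) := fun G => Finset.univ.filter fun k => (G k).natDegree ≠ 0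
  let act : SeqT F M m × Fˣ → SeqT F M m := fun x =>
    ⟨setConst x.1.1 (lam (S x.1.1) x.2), fun k => ⟨(setConst_spec _ _ x.1.2.1 k).1, (setConst_spec _ _ x.1.2.1 k).2.2.2⟩, by
      refine Eq.trans ?_ x.1.2.2
      exact Finset.sum_congr rfl fun k _ => by rw [(setConst_spec _ _ x.1.2.1 k).2.1]⟩
  have hS : ∀ x, S (act x).1 = S x.1.1 := fun x =>
    Finset.filter_congr fun k _ => by rw [(setConst_spec _ _ x.1.2.1 k).2.1]
  have hh : ∀ x, hdata (act x).1 = hdata x.1.1 := fun x => by
    show Nat.gcd _ ((S (act x).1).gcd _) = Nat.gcd _ ((S x.1.1).gcd _)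
    rw [hS]
  have hp : ∀ x, pdata (act x).1 = (x.2 : F) ^ hdata x.1.1 * pdata x.1.1 := fun x => by
    have := congrArg Units.val (hlam (S x.1.1) x.2 x.1.1 rfl)
    rw [Units.coe_prod, Units.val_pow_eq_pow_val, Finset.prod_filter] at this
    rw [pdata, pdata, ← this, ← Finset.prod_mul_distrib]
    refine Finset.prod_congr rfl fun k _ => ?_
    rw [(setConst_spec _ _ x.1.2.1 k).2.2.1, mul_pow]
    congr 1
    by_cases h : (x.1.1 k).natDegree = 0
    · simp [h]
    · simp [h, S]
  let A := (Finset.univ.filter fun H : SeqT F M m => pdata H.1 = c) ×ˢ (Finset.univ : Finset Fˣ)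
  calc (Fintype.card F - 1) * ∑ H ∈ Finset.univ.filter (fun H : SeqT F M m => pdata H.1 = c), hdata H.1
      = ∑ x ∈ A, hdata x.1.1 := by
        rw [Finset.sum_product, Finset.mul_sum]
        exact Finset.sum_congr rfl fun H _ => by
          show _ = ∑ _y : Fˣ, hdata H.1
          rw [Finset.sum_const, smul_eq_mul, Finset.card_univ, Fintype.card_units]
    _ = ∑ H : SeqT F M m, ∑ x ∈ A.filter (fun x => act x = H), hdata x.1.1 := (Finset.sum_fiberwise A act _).symm
    _ ≤ sqSum F M m := by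
        refine Finset.sum_le_sum fun H _ => ?_
        rw [Finset.sum_congr rfl (g := fun _ => hdata H.1) fun x hx => by
          rw [← (Finset.mem_filter.1 hx).2, hh], Finset.sum_const, smul_eq_mul, sq]
        refine Nat.mul_le_mul_right _ ?_
        refine le_trans (Finset.card_le_card_of_injOn (fun x => (x.2 : F))
          (t := (nthRoots (hdata H.1) (pdata H.1 / c)).toFinset) (fun x hx => ?_) fun x hx y hy hxy => ?_)
          ((Multiset.toFinset_card_le _).trans (card_nthRoots _ _))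
        · obtain ⟨hxA, rfl⟩ := Finset.mem_filter.1 hx
          obtain ⟨hc, -⟩ := Finset.mem_product.1 hxA
          rw [Finset.mem_coe, Multiset.mem_toFinset, mem_nthRoots (hdata_pos _), hh, hp,
            ← (Finset.mem_filter.1 hc).2, mul_div_assoc, div_self ?_, mul_one]
          exact Finset.prod_ne_zero_iff.2 fun k _ => pow_ne_zero _ (x.1.2.1 k).2
        · have hxH := (Finset.mem_filter.1 hx).2
          have hyH := (Finset.mem_filter.1 hy).2
          have hμ : x.2 = y.2 := Units.ext hxy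
          refine Prod.ext (Subtype.ext ?_) hμ
          have h1 : setConst x.1.1 (lam (S x.1.1) x.2) = setConst y.1.1 (lam (S y.1.1) y.2) :=
            congrArg Subtype.val (hxH.trans hyH.symm)
          rw [hμ, show S y.1.1 = S x.1.1 by rw [← hS y, ← hS x, hxH, hyH]] at h1
          exact setConst_injective _ x.1.2.1 y.1.2.1 h1

theorem eq_expand_of_scaleRoots {r : Fˣ} {G : F[X]} (h : G.scaleRoots (r : F) = G) (h0 : G.coeff 0 ≠ 0) :
    expand F (orderOf r) (contract (orderOf r) G) = G := by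
  have key : ∀ i, G.coeff i ≠ 0 → orderOf r ∣ G.natDegree - i := by
    intro i hi
    have hc := congrArg (fun p : F[X] => p.coeff i) h
    simp only [coeff_scaleRoots] at hc
    rw [orderOf_dvd_iff_pow_eq_one, Units.ext_iff, Units.val_pow_eq_pow_val, Units.val_one]
    exact mul_left_cancel₀ hi (hc.trans (mul_one _).symm)
  have he : 0 < orderOf r := orderOf_pos r
  ext i
  rw [coeff_expand he]
  split_ifs with hd
  · rw [coeff_contract he.ne', Nat.div_mul_cancel hd]
  · by_contra hne
    refine hd ?_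
    have h1 := key i (Ne.symm hne)
    have h2 := key 0 h0
    rw [Nat.sub_zero] at h2
    have := le_natDegree_of_ne_zero (Ne.symm hne)
    have h3 := Nat.dvd_sub h2 h1
    rwa [show G.natDegree - (G.natDegree - i) = i by omega] at h3

/-- The parameters invariant under scaling are expanded parameters. -/
theorem sum_scaled_le {n : ℕ} (r : Fˣ) (c : F)
    [DecidablePred fun G : SeqT F n n => (∀ k, (G.1 k).scaleRoots (r : F) = G.1 k) ∧ pdata G.1 = c] :
    (Fintype.card F - 1) * ∑ G ∈ Finset.univ.filter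
      (fun G : SeqT F n n => (∀ k, (G.1 k).scaleRoots (r : F) = G.1 k) ∧ pdata G.1 = c), hdata G.1 ≤
      sqSum F n (n / orderOf r) := by
  classical
  have he : 0 < orderOf r := orderOf_pos r
  let s := Finset.univ.filter
    (fun G : SeqT F n n => (∀ k, (G.1 k).scaleRoots (r : F) = G.1 k) ∧ pdata G.1 = c)
  have hG : ∀ G ∈ s, ∀ k, expand F (orderOf r) (contract (orderOf r) (G.1 k)) = G.1 k := fun G hG k =>
    eq_expand_of_scaleRoots ((Finset.mem_filter.1 hG).2.1 k) (G.2.1 k).2
  have hmem : ∀ G ∈ s, (∀ k, (contract (orderOf r) (G.1 k)).Monic ∧ (contract (orderOf r) (G.1 k)).coeff 0 ≠ 0) ∧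
      wdeg F (fun k => contract (orderOf r) (G.1 k)) = n / orderOf r := by
    intro G hGs
    refine ⟨fun k => ⟨?_, ?_⟩, ?_⟩
    · rw [← monic_expand_iff he, hG G hGs k]
      exact (G.2.1 k).1
    · rw [coeff_contract he.ne', zero_mul]
      exact (G.2.1 k).2
    · symm
      refine Nat.div_eq_of_eq_mul_left he ?_
      conv_lhs => rw [← G.2.2]
      rw [wdeg, wdeg, Finset.sum_mul]
      refine Finset.sum_congr rfl fun k _ => ?_
      conv_lhs => rw [← hG G hGs k, natDegree_expand]
      rw [mul_assoc]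
  have hh : ∀ G ∈ s, hdata (fun k => contract (orderOf r) (G.1 k)) = hdata G.1 := by
    intro G hGs
    rw [hdata, hdata]
    congr 2
    refine Finset.filter_congr fun k _ => ?_
    conv_rhs => rw [← hG G hGs k, natDegree_expand]
    simp [he.ne']
  refine le_trans (Nat.mul_le_mul_left _ ?_) (sum_fixed_pdata_le n (n / orderOf r) c)
  let f : {G // G ∈ s} → SeqT F n (n / orderOf r) := fun G => ⟨_, hmem G.1 G.2⟩
  have hf : Function.Injective f := fun x y hxy => Subtype.ext (Subtype.ext (_root_.funext fun k => by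
    have hk : contract (orderOf r) (x.1.1 k) = contract (orderOf r) (y.1.1 k) :=
      congrFun (congrArg Subtype.val hxy) k
    rw [← hG x.1 x.2 k, hk, hG y.1 y.2 k]))
  calc ∑ G ∈ s, hdata G.1 = ∑ G ∈ s.attach, hdata (f G).1 := by
        rw [← Finset.sum_attach]
        exact Finset.sum_congr rfl fun G _ => (hh G.1 G.2).symm
    _ = ∑ H ∈ s.attach.image f, hdata H.1 :=
        (Finset.sum_image (f := fun H : SeqT F n (n / orderOf r) => hdata H.1) fun x _ y _ h => hf h).symm
    _ ≤ _ := Finset.sum_le_sum_of_subset fun H hH => by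
        obtain ⟨⟨G, hGs⟩, -, rfl⟩ := Finset.mem_image.1 hH
        refine Finset.mem_filter.2 ⟨Finset.mem_univ _, Eq.trans (Finset.prod_congr rfl fun k _ => ?_)
          (Finset.mem_filter.1 hGs).2.2⟩
        show (contract (orderOf r) (G.1 k)).coeff 0 ^ _ = _
        rw [coeff_contract he.ne', zero_mul]

section Classes

variable {n : ℕ}

/-- The element of the general linear group. -/
noncomputable def glOf (g : Matrix.SpecialLinearGroup (Fin n) F) : GL (Fin n) F :=
  Matrix.SpecialLinearGroup.toGL g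

theorem pdata_glOf (g : Matrix.SpecialLinearGroup (Fin n) F) : pdata (dataOf (glOf g)).1 = (-1) ^ n := by
  have h : (1 : F) = (-1) ^ n * pdata (dataOf (glOf g)).1 := by
    rw [pdata, ← det_dataOf]
    exact g.2.symm
  calc pdata (dataOf (glOf g)).1 = (-1) ^ n * ((-1) ^ n * pdata (dataOf (glOf g)).1) := by
        rw [← mul_assoc, ← pow_add, Even.neg_one_pow ⟨n, rfl⟩, one_mul]
    _ = (-1) ^ n := by rw [← h, mul_one]

/-- The classes fixed by a central element, by parameters. -/
theorem card_fixed_le (r : Fˣ) (z : Matrix.SpecialLinearGroup (Fin n) F)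
    (hz : (z : Matrix (Fin n) (Fin n) F) = (r : F) • 1) :
    (Fintype.card F - 1) * Nat.card {C : ConjClasses (Matrix.SpecialLinearGroup (Fin n) F) //
      ∃ g, ConjClasses.mk g = C ∧ IsConj (z * g) g} ≤ sqSum F n (n / orderOf r) := by
  classical
  refine le_trans (Nat.mul_le_mul_left _ ?_) (sum_scaled_le r ((-1) ^ n))
  let s := Finset.univ.filter
    (fun G : SeqT F n n => (∀ k, (G.1 k).scaleRoots (r : F) = G.1 k) ∧ pdata G.1 = (-1) ^ n)
  let P : SeqT F n n → Type u := fun G => Fˣ ⧸ (powMonoidHom (hdata G.1) : Fˣ →* Fˣ).range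
  rw [show ∑ G ∈ s, hdata G.1 = Nat.card (Σ G : {G // G ∈ s}, P G.1) by
    rw [Nat.card_sigma, ← Finset.sum_coe_sort]
    exact Finset.sum_congr rfl fun G _ => (card_quotient_pow (hdata_dvd G.1.1)).symm]
  let rep : {C : ConjClasses (Matrix.SpecialLinearGroup (Fin n) F) //
      ∃ g, ConjClasses.mk g = C ∧ IsConj (z * g) g} → Matrix.SpecialLinearGroup (Fin n) F :=
    fun C => C.2.choose
  have hrep : ∀ C, ConjClasses.mk (rep C) = C.1 ∧ IsConj (z * rep C) (rep C) := fun C => C.2.choose_spec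
  let base : SeqT F n n → GL (Fin n) F := Function.invFun dataOf
  have hbase : ∀ C, IsConj (base (dataOf (glOf (rep C)))) (glOf (rep C)) := fun C =>
    isConj_of_data (Function.invFun_eq ⟨_, rfl⟩)
  choose x hx using fun C => isConj_iff.1 (hbase C)
  have hmem : ∀ C, dataOf (glOf (rep C)) ∈ s := by
    intro C
    refine Finset.mem_filter.2 ⟨Finset.mem_univ _, fun k => ?_, pdata_glOf _⟩
    obtain ⟨y, hy⟩ := isConj_iff.1 (hrep C).2
    refine (congrFun (data_smul (g := glOf (rep C)) (g' := glOf (rep C)) (x := glOf y) r.ne_zero ?_) k).symm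
    have hy' := congrArg (fun a : Matrix.SpecialLinearGroup (Fin n) F => (a : Matrix (Fin n) (Fin n) F))
      (mul_inv_eq_iff_eq_mul.1 hy)
    simp only [Matrix.SpecialLinearGroup.coe_mul, hz, Matrix.smul_mul, one_mul] at hy'
    exact hy'.symm
  refine Nat.card_le_card_of_injective (fun C => (⟨⟨_, hmem C⟩,
    QuotientGroup.mk (Matrix.GeneralLinearGroup.det (x C))⟩ : Σ G : {G // G ∈ s}, P G.1)) ?_
  intro C C' hCC
  have hG : dataOf (glOf (rep C)) = dataOf (glOf (rep C')) := congrArg (fun a : Σ G : {G // G ∈ s}, P G.1 => a.1.1) hCC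
  obtain ⟨b, hb⟩ : ∃ b, b = base (dataOf (glOf (rep C))) := ⟨_, rfl⟩
  have hxC := hx C
  have hxC' := hx C'
  rw [← hb] at hxC
  rw [← hG, ← hb] at hxC'
  have hdata' : dataOf b = dataOf (glOf (rep C)) := by rw [hb]; exact Function.invFun_eq ⟨_, rfl⟩
  obtain ⟨μ, hμ⟩ : ∃ μ : Fˣ, μ ^ hdata (dataOf (glOf (rep C))).1 =
      (Matrix.GeneralLinearGroup.det (x C))⁻¹ * Matrix.GeneralLinearGroup.det (x C') := by
    have key : ∀ (G G' : {G // G ∈ s}) (a a' : Fˣ),
        (⟨G, QuotientGroup.mk a⟩ : Σ G : {G // G ∈ s}, P G.1) = ⟨G', QuotientGroup.mk a'⟩ →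
        ∃ μ : Fˣ, μ ^ hdata G.1.1 = a⁻¹ * a' := by
      intro G G' a a' h
      have h1 : G = G' := congrArg Sigma.fst h
      subst h1
      obtain ⟨μ, hμ⟩ := QuotientGroup.eq.1 (eq_of_heq (Sigma.mk.inj_iff.1 h).2)
      exact ⟨μ, hμ⟩
    exact key ⟨_, hmem C⟩ ⟨_, hmem C'⟩ _ _ hCC
  obtain ⟨c, hc, hd⟩ := exists_centraliser_det b μ
  rw [hdata', hμ] at hd
  let y : GL (Fin n) F := x C' * c⁻¹ * (x C)⁻¹
  have hy : y * glOf (rep C) * y⁻¹ = glOf (rep C') := by
    rw [← hxC, ← hxC']
    have hc' : c⁻¹ * b * c = b := by rw [mul_assoc, ← hc, inv_mul_cancel_left]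
    calc y * (x C * b * (x C)⁻¹) * y⁻¹ = x C' * (c⁻¹ * b * c) * (x C')⁻¹ := by simp only [y]; group
      _ = _ := by rw [hc']
  have hdet : Matrix.GeneralLinearGroup.det y = 1 := by
    simp only [y, map_mul, map_inv, hd]
    rw [mul_inv_rev, inv_inv, mul_assoc, mul_assoc, mul_inv_cancel, mul_one, mul_inv_cancel]
  refine Subtype.ext ?_
  rw [← (hrep C).1, ← (hrep C').1, ConjClasses.mk_eq_mk_iff_isConj, isConj_iff]
  obtain ⟨Y, hY⟩ : ∃ Y : Matrix.SpecialLinearGroup (Fin n) F,
      (Y : Matrix (Fin n) (Fin n) F) = (y : Matrix (Fin n) (Fin n) F) :=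
    ⟨⟨(y : Matrix (Fin n) (Fin n) F), by rw [← Matrix.GeneralLinearGroup.val_det_apply, hdet, Units.val_one]⟩, rfl⟩
  refine ⟨Y, ?_⟩
  rw [mul_inv_eq_iff_eq_mul]
  refine Subtype.ext ?_
  rw [Matrix.SpecialLinearGroup.coe_mul, Matrix.SpecialLinearGroup.coe_mul, hY]
  exact congrArg Units.val (mul_inv_eq_iff_eq_mul.1 hy)

end Classes

end Cfsg.Agent.Small.ClassNumber
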