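import Mathlib

/-!
Determinants of polynomials in a matrix, of blockwise maps, and norms on quotients of polynomial rings.
-/

set_option autoImplicit false
set_option linter.style.haveILetI false
set_option linter.unusedSectionVars false

namespace Cfsg.Agent.Small.ClassNumber

open Polynomial

universe u v w

variable {F : Type u} [Field F]

/-- Substitution into a matrix, followed by the determinant. -/
noncomputable def detAt {n : Type v} [Fintype n] [DecidableEq n] (A : Matrix n n F) : F[X] →* F :=
  Matrix.detMonoidHom.comp (aeval A).toRingHom.toMonoidHom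

theorem detAt_apply {n : Type v} [Fintype n] [DecidableEq n] (A : Matrix n n F) (a : F[X]) :
    detAt A a = (aeval A a).det := rfl

theorem detAt_C {n : Type v} [Fintype n] [DecidableEq n] (A : Matrix n n F) (c : F) :
    detAt A (C c) = c ^ Fintype.card n := by
  rw [detAt_apply, aeval_C, Algebra.algebraMap_eq_smul_one, Matrix.det_smul, Matrix.det_one, mul_one]

theorem detAt_X_sub_C {n : Type v} [Fintype n] [DecidableEq n] (A : Matrix n n F) (r : F) :
    detAt A (X - C r) = (-1) ^ Fintype.card n * A.charpoly.eval r := by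
  rw [detAt_apply, map_sub, aeval_X, aeval_C, Matrix.eval_charpoly, ← Matrix.det_neg, neg_sub]
  rfl

theorem map_detAt {K : Type*} [Field K] (f : F →+* K) {n : Type v} [Fintype n] [DecidableEq n]
    (A : Matrix n n F) (a : F[X]) : f (detAt A a) = detAt (A.map f) (a.map f) := by
  rw [detAt_apply, detAt_apply, RingHom.map_det, RingHom.mapMatrix_apply]
  congr 1
  induction a using Polynomial.induction_on' with
  | add p q hp hq => rw [map_add, Polynomial.map_add, map_add, Matrix.map_add _ (map_add f), hp, hq]
  | monomial k c =>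
    rw [aeval_monomial, Polynomial.map_monomial, aeval_monomial, Algebra.algebraMap_eq_smul_one,
      Algebra.algebraMap_eq_smul_one, smul_one_mul, smul_one_mul, ← Matrix.map_pow]
    exact Matrix.map_smul' _ _ _ (map_mul f)

/-- The determinant of a polynomial in a matrix depends only on the characteristic polynomial. -/
theorem detAt_pow {n : Type v} [Fintype n] [DecidableEq n] {m : Type w} [Fintype m] [DecidableEq m]
    (A : Matrix n n F) (B : Matrix m m F) (e : ℕ) (h : A.charpoly = B.charpoly ^ e) (a : F[X]) :
    detAt A a = detAt B a ^ e := by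
  have hn : Fintype.card n = Fintype.card m * e := by
    have := congrArg natDegree h
    rwa [natDegree_pow, Matrix.charpoly_natDegree_eq_dim, Matrix.charpoly_natDegree_eq_dim, mul_comm] at this
  let K := AlgebraicClosure F
  let f : F →+* K := algebraMap F K
  refine f.injective ?_
  rw [map_pow, map_detAt, map_detAt, (IsAlgClosed.splits (a.map f)).eq_prod_roots, map_mul, map_mul, mul_pow, detAt_C,
    detAt_C, ← pow_mul, ← hn, map_multiset_prod, map_multiset_prod, Multiset.map_map, Multiset.map_map,
    ← Multiset.prod_map_pow]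
  congr 2
  refine Multiset.map_congr rfl fun r _ => ?_
  simp only [Function.comp_apply, detAt_X_sub_C, Matrix.charpoly_map, h, Polynomial.map_pow, eval_pow,
    mul_pow, ← pow_mul, ← hn]

theorem finite_adjoinRoot {f : F[X]} (hf : f.Monic) : Module.Finite F (AdjoinRoot f) :=
  (AdjoinRoot.powerBasis' hf).finite

theorem finrank_adjoinRoot {f : F[X]} (hf : f.Monic) : Module.finrank F (AdjoinRoot f) = f.natDegree :=
  (AdjoinRoot.powerBasis' hf).finrank

theorem charpoly_leftMul_root {f : F[X]} (hf : f.Monic) :
    (Algebra.leftMulMatrix (AdjoinRoot.powerBasis' hf).basis (AdjoinRoot.powerBasis' hf).gen).charpoly = f := by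
  refine (charpoly_leftMulMatrix (AdjoinRoot.powerBasis' hf)).trans ?_
  show minpoly F (AdjoinRoot.root f) = f
  rw [AdjoinRoot.minpoly_root hf.ne_zero, hf.leadingCoeff, inv_one, map_one, mul_one]

theorem norm_mk_eq {f : F[X]} (hf : f.Monic) (a : F[X]) :
    Algebra.norm F (AdjoinRoot.mk f a) =
      detAt (Algebra.leftMulMatrix (AdjoinRoot.powerBasis' hf).basis (AdjoinRoot.powerBasis' hf).gen) a := by
  rw [Algebra.norm_eq_matrix_det (AdjoinRoot.powerBasis' hf).basis, detAt_apply, aeval_algHom_apply]
  congr 2
  show AdjoinRoot.mk f a = aeval (AdjoinRoot.root f) a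
  rw [AdjoinRoot.aeval_eq]

theorem norm_mk_pow {f : F[X]} (hf : f.Monic) (e : ℕ) (a : F[X]) :
    Algebra.norm F (AdjoinRoot.mk (f ^ e) a) = Algebra.norm F (AdjoinRoot.mk f a) ^ e := by
  rw [norm_mk_eq (hf.pow e), norm_mk_eq hf]
  exact detAt_pow _ _ e (by rw [charpoly_leftMul_root, charpoly_leftMul_root]) a

theorem norm_root {f : F[X]} (hf : f.Monic) :
    Algebra.norm F (AdjoinRoot.root f) = (-1) ^ f.natDegree * f.coeff 0 := by
  rw [← AdjoinRoot.mk_X, norm_mk_eq hf, detAt_apply, aeval_X, Matrix.det_eq_sign_charpoly_coeff,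
    charpoly_leftMul_root, Fintype.card_fin]
  rfl

theorem det_mulLeft_eq_norm {f : F[X]} (x : AdjoinRoot f) :
    LinearMap.det (LinearMap.mulLeft F x) = Algebra.norm F x := rfl

/-- The map acting componentwise. -/
def piEnd {κ : Type v} (M : κ → Type w) [∀ i, AddCommGroup (M i)] [∀ i, Module F (M i)] :
    (∀ i, Module.End F (M i)) →* Module.End F (∀ i, M i) where
  toFun g := LinearMap.pi fun i => (g i).comp (LinearMap.proj i)
  map_one' := rfl
  map_mul' _ _ := rfl

theorem piEnd_apply {κ : Type v} {M : κ → Type w} [∀ i, AddCommGroup (M i)] [∀ i, Module F (M i)]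
    (g : ∀ i, Module.End F (M i)) (x : ∀ i, M i) (i : κ) : piEnd M g x i = g i (x i) := rfl

theorem det_piEnd_mulSingle {κ : Type v} [Fintype κ] [DecidableEq κ] {M : κ → Type w}
    [∀ i, AddCommGroup (M i)] [∀ i, Module F (M i)] [∀ i, Module.Finite F (M i)] (i : κ)
    (g : Module.End F (M i)) : LinearMap.det (piEnd M (Pi.mulSingle i g)) = LinearMap.det g := by
  let E : (∀ j, M j) ≃ₗ[F] M i × (∀ j : {j // j ≠ i}, M j) :=
    { toFun := fun x => (x i, fun j => x j)
      map_add' := fun _ _ => rfl
      map_smul' := fun _ _ => rfl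
      invFun := (Equiv.piSplitAt i M).symm
      left_inv := (Equiv.piSplitAt i M).left_inv
      right_inv := (Equiv.piSplitAt i M).right_inv }
  rw [← LinearMap.det_conj (piEnd M (Pi.mulSingle i g)) E]
  have : E.toLinearMap ∘ₗ piEnd M (Pi.mulSingle i g) ∘ₗ E.symm.toLinearMap = g.prodMap LinearMap.id := by
    refine LinearMap.ext fun y => ?_
    obtain ⟨x, rfl⟩ := E.surjective y
    simp only [LinearMap.comp_apply, LinearEquiv.coe_coe, LinearEquiv.symm_apply_apply]
    refine Prod.ext ?_ (funext fun j => ?_)
    · show (Pi.mulSingle i g : ∀ j, Module.End F (M j)) i (x i) = g (x i)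
      rw [Pi.mulSingle_eq_same]
    · show (Pi.mulSingle i g : ∀ j, Module.End F (M j)) j (x j) = x j
      rw [Pi.mulSingle_eq_of_ne j.2]
      rfl
  rw [this, LinearMap.det_prodMap, LinearMap.det_id, mul_one]

theorem det_piEnd {κ : Type v} [Fintype κ] [DecidableEq κ] {M : κ → Type w}
    [∀ i, AddCommGroup (M i)] [∀ i, Module F (M i)] [∀ i, Module.Finite F (M i)]
    (g : ∀ i, Module.End F (M i)) : LinearMap.det (piEnd M g) = ∏ i, LinearMap.det (g i) := by
  have key : ∀ s : Finset κ, LinearMap.det (piEnd M (fun i => if i ∈ s then g i else 1)) =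
      ∏ i ∈ s, LinearMap.det (g i) := by
    intro s
    induction s using Finset.induction with
    | empty =>
      rw [show (fun i => if i ∈ (∅ : Finset κ) then g i else 1) = 1 from funext fun i => by simp, map_one,
        map_one, Finset.prod_empty]
    | insert a s ha ih =>
      rw [show (fun i => if i ∈ insert a s then g i else 1) =
          Pi.mulSingle a (g a) * (fun i => if i ∈ s then g i else 1) from ?_, map_mul, map_mul, ih,
        det_piEnd_mulSingle, Finset.prod_insert ha]
      funext i
      rcases eq_or_ne i a with rfl | hi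
      · simp [ha]
      · simp [hi]
  simpa using key Finset.univ

end Cfsg.Agent.Small.ClassNumber
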