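import Mathlib

/-!
Sequences of monic polynomials with nonzero constant terms and prescribed weighted degree: the parameters of
the conjugacy classes of a finite general linear group, and their number.
-/

set_option autoImplicit false
set_option linter.unusedVariables false
set_option linter.style.haveILetI false

namespace Cfsg.Agent.Small.ClassNumber

open Polynomial

variable (F : Type*) [Field F]

/-- The weighted degree. -/
noncomputable def wdeg {M : ℕ} (G : Fin M → F[X]) : ℕ := ∑ i, (i.val + 1) * (G i).natDegree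

/-- The sequences of weight `n`. -/
def SeqT (M n : ℕ) : Type _ :=
  {G : Fin M → F[X] // (∀ i, (G i).Monic ∧ (G i).coeff 0 ≠ 0) ∧ wdeg F G = n}

/-- The sequences with a further monic polynomial of weight `M + 1`, without condition on its constant. -/
def SeqU (M n : ℕ) : Type _ :=
  {x : (Fin M → F[X]) × F[X] // (∀ i, (x.1 i).Monic ∧ (x.1 i).coeff 0 ≠ 0) ∧ x.2.Monic ∧
    wdeg F x.1 + (M + 1) * x.2.natDegree = n}

variable {F}

theorem wdeg_castSucc {M : ℕ} (G : Fin (M + 1) → F[X]) :
    wdeg F G = wdeg F (fun i => G i.castSucc) + (M + 1) * (G (Fin.last M)).natDegree := by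
  rw [wdeg, Fin.sum_univ_castSucc]
  rfl

theorem wdeg_snoc {M : ℕ} (G : Fin M → F[X]) (p : F[X]) :
    wdeg F (Fin.snoc G p : Fin (M + 1) → F[X]) = wdeg F G + (M + 1) * p.natDegree := by
  rw [wdeg_castSucc]
  simp

theorem monic_natDegree_succ {p : F[X]} (hp : p.Monic) (h : p.natDegree ≠ 0) :
    p.divX.Monic ∧ p.natDegree = p.divX.natDegree + 1 := by
  have hd : p.natDegree = p.divX.natDegree + 1 := by
    rw [natDegree_divX_eq_natDegree_tsub_one]; omega
  refine ⟨?_, hd⟩
  rw [Monic, leadingCoeff, coeff_divX, ← hd]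
  exact hp

theorem build_monic {p : F[X]} (hp : p.Monic) (c : F) :
    (X * p + C c).Monic ∧ (X * p + C c).natDegree = p.natDegree + 1 ∧ (X * p + C c).coeff 0 = c ∧
      (X * p + C c).divX = p := by
  have hd : (X * p).natDegree = p.natDegree + 1 := natDegree_X_mul hp.ne_zero
  refine ⟨?_, ?_, by simp, ?_⟩
  · refine (monic_X.mul hp).add_of_left ?_
    refine lt_of_le_of_lt degree_C_le ?_
    rw [← natDegree_pos_iff_degree_pos, hd]
    omega
  · rw [natDegree_add_C, hd]
  · ext i
    rw [coeff_divX, coeff_add, coeff_X_mul, coeff_C, if_neg (Nat.succ_ne_zero i), add_zero]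

theorem eq_one_of_natDegree_zero {p : F[X]} (hp : p.Monic) (h : p.natDegree = 0) : p = 1 :=
  hp.natDegree_eq_zero.1 h

/-- Splitting the last polynomial. -/
noncomputable def splitT (M n : ℕ) :
    SeqT F (M + 1) n ≃ SeqT F M n ⊕ {x : {c : F // c ≠ 0} × SeqU F M (n - (M + 1)) // M + 1 ≤ n} where
  toFun G :=
    if h : (G.1 (Fin.last M)).natDegree = 0 then
      .inl ⟨fun i => G.1 i.castSucc, fun i => G.2.1 _, by
        have := G.2.2
        rw [wdeg_castSucc, h, mul_zero, add_zero] at this
        exact this⟩
    else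
      .inr ⟨(⟨(G.1 (Fin.last M)).coeff 0, (G.2.1 _).2⟩,
        ⟨(fun i => G.1 i.castSucc, (G.1 (Fin.last M)).divX), fun i => G.2.1 _,
          (monic_natDegree_succ (G.2.1 _).1 h).1, by
            have := G.2.2
            rw [wdeg_castSucc, (monic_natDegree_succ (G.2.1 _).1 h).2, mul_add, mul_one] at this
            dsimp only
            omega⟩), by
        have := G.2.2
        rw [wdeg_castSucc, (monic_natDegree_succ (G.2.1 _).1 h).2, mul_add, mul_one] at this
        omega⟩
  invFun
    | .inl G => ⟨Fin.snoc G.1 1, fun i => Fin.lastCases (by simp) (fun i => by simpa using G.2.1 i) i, by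
        rw [wdeg_snoc, natDegree_one, mul_zero, add_zero, G.2.2]⟩
    | .inr x => ⟨Fin.snoc x.1.2.1.1 (X * x.1.2.1.2 + C x.1.1.1), fun i => Fin.lastCases
        (by
          have h := build_monic x.1.2.2.2.1 x.1.1.1
          simp only [Fin.snoc_last]
          exact ⟨h.1, by rw [h.2.2.1]; exact x.1.1.2⟩)
        (fun i => by simpa using x.1.2.2.1 i) i, by
        have h := build_monic x.1.2.2.2.1 x.1.1.1
        have := x.1.2.2.2.2
        have := x.2
        rw [wdeg_snoc, h.2.1, mul_add, mul_one]
        omega⟩
  left_inv G := by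
    by_cases h : (G.1 (Fin.last M)).natDegree = 0
    · simp only [dif_pos h]
      refine Subtype.ext (funext fun i => ?_)
      induction i using Fin.lastCases with
      | last => simp [eq_one_of_natDegree_zero (G.2.1 _).1 h]
      | cast i => simp
    · simp only [dif_neg h]
      refine Subtype.ext (funext fun i => ?_)
      induction i using Fin.lastCases with
      | last => simp [X_mul_divX_add]
      | cast i => simp
  right_inv x := by
    rcases x with G | ⟨⟨⟨c, hc⟩, ⟨⟨H, p⟩, hH, hp, hw⟩⟩, hn⟩
    · simp only [Fin.snoc_last, natDegree_one, dite_true, Fin.snoc_castSucc]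
      rfl
    · have h := build_monic hp c
      simp only [Fin.snoc_last, h.2.1, Nat.succ_ne_zero, dite_false, Fin.snoc_castSucc, h.2.2.1, h.2.2.2]

/-- Splitting the unrestricted polynomial. -/
noncomputable def splitU (M n : ℕ) :
    SeqU F M n ≃ SeqT F M n ⊕ {_x : F × SeqU F M (n - (M + 1)) // M + 1 ≤ n} where
  toFun x :=
    if h : x.1.2.natDegree = 0 then
      .inl ⟨x.1.1, x.2.1, by have := x.2.2.2; rw [h, mul_zero, add_zero] at this; exact this⟩
    else
      .inr ⟨(x.1.2.coeff 0, ⟨(x.1.1, x.1.2.divX), x.2.1, (monic_natDegree_succ x.2.2.1 h).1, by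
        have := x.2.2.2
        rw [(monic_natDegree_succ x.2.2.1 h).2, mul_add, mul_one] at this
        dsimp only
        omega⟩), by
        have := x.2.2.2
        rw [(monic_natDegree_succ x.2.2.1 h).2, mul_add, mul_one] at this
        omega⟩
  invFun
    | .inl G => ⟨(G.1, 1), G.2.1, monic_one, by rw [natDegree_one, mul_zero, add_zero, G.2.2]⟩
    | .inr x => ⟨(x.1.2.1.1, X * x.1.2.1.2 + C x.1.1), x.1.2.2.1, (build_monic x.1.2.2.2.1 x.1.1).1, by
        have := x.1.2.2.2.2
        have := x.2
        dsimp only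
        rw [(build_monic x.1.2.2.2.1 x.1.1).2.1, mul_add, mul_one]
        omega⟩
  left_inv x := by
    by_cases h : x.1.2.natDegree = 0
    · simp only [dif_pos h]
      exact Subtype.ext (Prod.ext rfl (eq_one_of_natDegree_zero x.2.2.1 h).symm)
    · simp only [dif_neg h]
      exact Subtype.ext (Prod.ext rfl (X_mul_divX_add _))
  right_inv x := by
    rcases x with G | ⟨⟨c, ⟨⟨H, p⟩, hH, hp, hw⟩⟩, hn⟩
    · simp only [natDegree_one, dite_true]
      rfl
    · have h := build_monic hp c
      simp only [h.2.1, Nat.succ_ne_zero, dite_false, h.2.2.1, h.2.2.2]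

variable [Fintype F]

instance finite_seqT_zero (n : ℕ) : Finite (SeqT F 0 n) :=
  Finite.of_injective (fun _ => ()) fun a b _ => Subtype.ext (funext fun i => i.elim0)

theorem finite_both : ∀ M : ℕ, (∀ n, Finite (SeqT F M n)) → ∀ n, Finite (SeqU F M n) := by
  intro M hT n
  induction n using Nat.strong_induction_on with
  | _ n ih =>
    haveI := hT n
    by_cases h : M + 1 ≤ n
    · haveI := ih (n - (M + 1)) (by omega)
      exact Finite.of_equiv _ (splitU (F := F) M n).symm
    · haveI : IsEmpty {_x : F × SeqU F M (n - (M + 1)) // M + 1 ≤ n} := ⟨fun x => h x.2⟩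
      exact Finite.of_equiv _ (splitU (F := F) M n).symm

instance finite_seqT : ∀ (M n : ℕ), Finite (SeqT F M n) := by
  intro M
  induction M with
  | zero => exact fun n => finite_seqT_zero n
  | succ M ih =>
    intro n
    haveI := ih n
    haveI := finite_both M ih (n - (M + 1))
    exact Finite.of_equiv _ (splitT (F := F) M n).symm

instance finite_seqU (M n : ℕ) : Finite (SeqU F M n) := finite_both M (finite_seqT M) n

variable (F)

/-- The number of sequences. -/
noncomputable def numT (M n : ℕ) : ℕ := Nat.card (SeqT F M n)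

/-- The number of sequences with an unrestricted last polynomial. -/
noncomputable def numU (M n : ℕ) : ℕ := Nat.card (SeqU F M n)

theorem card_if {A : Type*} [Finite A] (P : Prop) [Decidable P] :
    Nat.card {_x : A // P} = if P then Nat.card A else 0 := by
  split_ifs with h
  · exact Nat.card_congr (Equiv.subtypeUnivEquiv fun _ => h)
  · haveI : IsEmpty {_x : A // P} := ⟨fun x => h x.2⟩
    exact Nat.card_of_isEmpty

theorem numT_succ (M n : ℕ) :
    numT F (M + 1) n = numT F M n + if M + 1 ≤ n then (Fintype.card F - 1) * numU F M (n - (M + 1)) else 0 := by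
  classical
  rw [numT, Nat.card_congr (splitT M n), Nat.card_sum, card_if, Nat.card_prod,
    show Nat.card {c : F // c ≠ 0} = Fintype.card F - 1 by simp [Fintype.card_subtype_compl]]
  rfl

theorem numU_eq (M n : ℕ) :
    numU F M n = numT F M n + if M + 1 ≤ n then Fintype.card F * numU F M (n - (M + 1)) else 0 := by
  classical
  rw [numU, Nat.card_congr (splitU M n), Nat.card_sum, card_if, Nat.card_prod, Nat.card_eq_fintype_card (α := F)]
  rfl

theorem numT_zero_zero : numT F 0 0 = 1 := by
  haveI : Nonempty (SeqT F 0 0) := ⟨⟨fun i => i.elim0, fun i => i.elim0, by simp [wdeg]⟩⟩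
  haveI : Subsingleton (SeqT F 0 0) := ⟨fun a b => Subtype.ext (funext fun i => i.elim0)⟩
  exact Nat.card_unique

theorem numT_zero_pos (n : ℕ) (hn : n ≠ 0) : numT F 0 n = 0 := by
  haveI : IsEmpty (SeqT F 0 n) := ⟨fun G => hn (by have := G.2.2; simpa [wdeg] using this.symm)⟩
  exact Nat.card_of_isEmpty

/-- The bound: at most `q ^ n`, with defect `q ^ (n - M)` from the first `M` parts. -/
theorem numT_le : ∀ M n : ℕ, numT F M n ≤ Fintype.card F ^ n ∧
    (M ≤ n → numT F M n + Fintype.card F ^ (n - M) ≤ Fintype.card F ^ n ∨ n = 0) := by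
  have hq1 : 1 < Fintype.card F := Fintype.one_lt_card
  intro M
  induction M with
  | zero =>
    intro n
    rcases Nat.eq_zero_or_pos n with rfl | hn
    · exact ⟨by rw [numT_zero_zero, pow_zero], fun _ => Or.inr rfl⟩
    · rw [numT_zero_pos F n hn.ne']
      exact ⟨Nat.zero_le _, fun _ => Or.inl (by simp)⟩
  | succ M ih =>
    have hU : ∀ r, numU F M r ≤ Fintype.card F ^ r := by
      intro r
      induction r using Nat.strong_induction_on with
      | _ r ihr =>
        rw [numU_eq]
        split_ifs with h
        · obtain ⟨h1, h2⟩ := ih r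
          have h3 := (h2 (by omega)).resolve_right (by omega)
          have h4 := Nat.mul_le_mul_left (Fintype.card F) (ihr (r - (M + 1)) (by omega))
          rw [← pow_succ', show r - (M + 1) + 1 = r - M by omega] at h4
          omega
        · simpa using (ih r).1
    intro n
    by_cases h : M + 1 ≤ n
    · have hstep := numT_succ F M n
      rw [if_pos h] at hstep
      have h3 := ((ih n).2 (by omega)).resolve_right (by omega)
      have h4 := Nat.mul_le_mul_left (Fintype.card F - 1) (hU (n - (M + 1)))
      have h5 : (Fintype.card F - 1) * Fintype.card F ^ (n - (M + 1)) + Fintype.card F ^ (n - (M + 1)) =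
          Fintype.card F ^ (n - M) := by
        rw [show n - M = n - (M + 1) + 1 by omega, pow_succ']
        conv_lhs => arg 2; rw [← one_mul (Fintype.card F ^ (n - (M + 1)))]
        rw [← add_mul, Nat.sub_add_cancel hq1.le]
      exact ⟨by omega, fun _ => Or.inl (by omega)⟩
    · rw [numT_succ, if_neg h, add_zero]
      exact ⟨(ih n).1, fun h' => absurd h' h⟩

theorem numT_diag_lt {n : ℕ} (hn : 1 ≤ n) : numT F n n + 1 ≤ Fintype.card F ^ n := by
  have := ((numT_le F n n).2 le_rfl).resolve_right (by omega)
  rwa [Nat.sub_self, pow_zero] at this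

theorem numT_one : numT F 1 1 = Fintype.card F - 1 := by
  rw [numT_succ, if_pos le_rfl, numT_zero_pos F 1 one_ne_zero, numU_eq, if_neg (by omega), numT_zero_zero]
  simp

theorem numT_zero_right (M : ℕ) : numT F M 0 = 1 := by
  induction M with
  | zero => exact numT_zero_zero F
  | succ M ih => rw [numT_succ, if_neg (by omega), add_zero, ih]

theorem numU_zero_left (n : ℕ) : numU F 0 n = Fintype.card F ^ n := by
  induction n with
  | zero => rw [numU_eq, if_neg (by omega), add_zero, numT_zero_zero, pow_zero]
  | succ n ih =>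
    rw [numU_eq, if_pos (by omega), numT_zero_pos F _ (Nat.succ_ne_zero n), zero_add, Nat.add_sub_cancel, ih,
      ← pow_succ']

theorem numT_one_left (n : ℕ) : numT F 1 (n + 1) = (Fintype.card F - 1) * Fintype.card F ^ n := by
  rw [numT_succ, if_pos (by omega), numT_zero_pos F _ (Nat.succ_ne_zero n), zero_add, numU_zero_left,
    Nat.add_sub_cancel]

theorem numT_three : numT F 3 3 + Fintype.card F = Fintype.card F ^ 3 := by
  have hq1 : 1 < Fintype.card F := Fintype.one_lt_card
  have e1 : numT F 3 3 = numT F 2 3 + (Fintype.card F - 1) * 1 := by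
    rw [numT_succ, if_pos le_rfl, Nat.sub_self, numU_eq, if_neg (by omega), numT_zero_right, add_zero]
  have e2 : numT F 2 3 =
      (Fintype.card F - 1) * Fintype.card F ^ 2 + (Fintype.card F - 1) * (Fintype.card F - 1) := by
    rw [numT_succ, if_pos (by omega), numT_one_left F 2, show 3 - (1 + 1) = 1 from rfl, numU_eq,
      if_neg (by omega), add_zero, numT_one_left F 0, pow_zero, mul_one]
  rw [e1, e2]
  obtain ⟨p, hp⟩ : ∃ p, Fintype.card F = p + 2 := ⟨Fintype.card F - 2, by omega⟩
  rw [hp, show p + 2 - 1 = p + 1 by omega]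
  ring

end Cfsg.Agent.Small.ClassNumber
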