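import Cfsg.Agent.Lib.Small.ClassNumber.Decomp
import Cfsg.Agent.Lib.Small.ClassNumber.Seq

/-!
The parameters of the conjugacy classes of a finite general linear group.
-/

set_option autoImplicit false
set_option linter.style.haveILetI false
set_option linter.unusedSectionVars false

namespace Cfsg.Agent.Small.ClassNumber

open Polynomial

universe u v

variable {F : Type u} [Field F]

theorem prod_monic {s : Multiset F[X]} (h : ∀ P ∈ s, Irreducible P ∧ P.Monic) : s.prod.Monic := by
  simpa using monic_multiset_prod_of_monic s id fun P hP => (h P hP).2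

theorem factors_prod [DecidableEq F] {s : Multiset F[X]} (h : ∀ P ∈ s, Irreducible P ∧ P.Monic) :
    UniqueFactorizationMonoid.normalizedFactors s.prod = s := by
  rw [UniqueFactorizationMonoid.normalizedFactors_prod_eq s fun P hP => (h P hP).1]
  conv_rhs => rw [← Multiset.map_id s]
  exact Multiset.map_congr rfl fun P hP => (h P hP).2.normalize_eq_self

theorem scaleRoots_multiset_prod (s : Multiset F[X]) (r : F) :
    (s.map fun P => P.scaleRoots r).prod = s.prod.scaleRoots r := by
  induction s using Multiset.induction with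
  | empty => rw [Multiset.map_zero, Multiset.prod_zero, one_scaleRoots]
  | cons a s ih => rw [Multiset.map_cons, Multiset.prod_cons, Multiset.prod_cons, ih, mul_scaleRoots_of_noZeroDivisors]

theorem scaleRoots_inverse (p : F[X]) (r : F) (hr : r ≠ 0) : (p.scaleRoots r).scaleRoots r⁻¹ = p := by
  rw [← scaleRoots_mul, mul_inv_cancel₀ hr, scaleRoots_one]

theorem irreducible_scaleRoots {P : F[X]} (hP : Irreducible P) (hPm : P.Monic) {r : F} (hr : r ≠ 0) :
    Irreducible (P.scaleRoots r) := by
  have hm := (monic_scaleRoots_iff r).2 hPm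
  refine hm.irreducible_iff_natDegree.2 ⟨fun h => hP.natDegree_pos.ne' ?_, fun f g hf hg hfg => ?_⟩
  · rw [← natDegree_scaleRoots P r, h, natDegree_one]
  · have h2 := congrArg (fun p => scaleRoots p r⁻¹) hfg
    simp only [mul_scaleRoots_of_noZeroDivisors, scaleRoots_inverse P r hr] at h2
    rw [← natDegree_scaleRoots f r⁻¹, ← natDegree_scaleRoots g r⁻¹]
    exact (hPm.irreducible_iff_natDegree.1 hP).2 _ _ ((monic_scaleRoots_iff r⁻¹).2 hf)
      ((monic_scaleRoots_iff r⁻¹).2 hg) h2

theorem ker_aeval_smul {V : Type v} [AddCommGroup V] [Module F V] (T : Module.End F V) {r : F} (hr : r ≠ 0)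
    (a : F[X]) : LinearMap.ker (aeval (r • T) (a.scaleRoots r)) = LinearMap.ker (aeval T a) := by
  have h : aeval (r • T) (a.scaleRoots r) = r ^ a.natDegree • aeval T a := by
    rw [aeval_def, aeval_def, Algebra.smul_def r T,
      scaleRoots_eval₂_mul_of_commute (algebraMap F (Module.End F V)) T r (Algebra.commutes r T)
        (fun x y => Algebra.commutes x (algebraMap F (Module.End F V) y)), Algebra.smul_def, map_pow]
  rw [h, LinearMap.ker_smul _ _ (pow_ne_zero _ hr)]

namespace Decomp

variable {V : Type v} [AddCommGroup V] [Module F V] {T : Module.End F V} (D : Decomp T)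

/-- The polynomial of each exponent. -/
noncomputable def seq (n : ℕ) : Fin n → F[X] := fun k => (D.part (k.val + 1)).prod

theorem e_le [FiniteDimensional F V] (i : D.κ) : D.e i ≤ Module.finrank F V := by
  rw [D.finrank_eq]
  exact le_trans (Nat.le_mul_of_pos_right _ (D.irred i).natDegree_pos)
    (Finset.single_le_sum (f := fun k => D.e k * (D.p k).natDegree) (fun _ _ => Nat.zero_le _) (Finset.mem_univ i))

theorem seq_monic {n : ℕ} (k : Fin n) : (D.seq n k).Monic := prod_monic fun _ hP => D.part_spec hP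

open Classical in
theorem prod_fibre {M : Type*} [CommMonoid M] {n : ℕ} (hn : ∀ i, D.e i ≤ n) (f : D.κ → M) :
    ∏ k : Fin n, ∏ i ∈ Finset.univ.filter (fun i => D.e i = k.val + 1), f i = ∏ i, f i := by
  rw [← Finset.prod_fiberwise Finset.univ
    (fun i => (⟨D.e i - 1, by have := hn i; have := D.pos i; omega⟩ : Fin n)) f]
  refine Finset.prod_congr rfl fun k _ => Finset.prod_congr (Finset.filter_congr fun i _ => ?_) fun i _ => rfl
  have := D.pos i
  rw [Fin.ext_iff]
  dsimp only
  omega

theorem seq_eq_prod {n : ℕ} (k : Fin n) [DecidableEq ℕ] :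
    D.seq n k = ∏ i ∈ Finset.univ.filter (fun i => D.e i = k.val + 1), D.p i := by
  classical
  rw [seq, part, Finset.prod_eq_multiset_prod]
  congr!

open Classical in
theorem seq_natDegree {n : ℕ} (k : Fin n) :
    (D.seq n k).natDegree = ∑ i ∈ Finset.univ.filter (fun i => D.e i = k.val + 1), (D.p i).natDegree := by
  rw [D.seq_eq_prod, natDegree_prod_of_monic _ _ fun i _ => D.monic i]

theorem wdeg_seq [FiniteDimensional F V] {n : ℕ} (hn : Module.finrank F V = n) : wdeg F (D.seq n) = n := by
  classical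
  conv_rhs => rw [← hn, D.finrank_eq]
  rw [wdeg]
  have := D.prod_fibre (M := Multiplicative ℕ) (fun i => (D.e_le i).trans hn.le)
    (fun i => Multiplicative.ofAdd (D.e i * (D.p i).natDegree))
  simp only [← ofAdd_sum, Multiplicative.ofAdd.injective.eq_iff] at this
  rw [← this]
  refine Finset.sum_congr rfl fun k _ => ?_
  rw [D.seq_natDegree, Finset.mul_sum]
  exact Finset.sum_congr rfl fun i hi => by rw [(Finset.mem_filter.1 hi).2]

theorem det_seq [FiniteDimensional F V] {n : ℕ} (hn : Module.finrank F V = n) :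
    LinearMap.det T = (-1) ^ n * ∏ k : Fin n, (D.seq n k).coeff 0 ^ (k.val + 1) := by
  classical
  rw [D.det_eq, hn, ← D.prod_fibre (fun i => (D.e_le i).trans hn.le) (fun i => (D.p i).coeff 0 ^ D.e i)]
  congr 1
  refine Finset.prod_congr rfl fun k _ => ?_
  rw [D.seq_eq_prod, coeff_zero_eq_eval_zero, eval_prod, ← Finset.prod_pow]
  exact Finset.prod_congr rfl fun i hi => by rw [(Finset.mem_filter.1 hi).2, coeff_zero_eq_eval_zero]

theorem coeff_zero_ne [FiniteDimensional F V] (h : LinearMap.det T ≠ 0) (i : D.κ) : (D.p i).coeff 0 ≠ 0 := by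
  rw [D.det_eq] at h
  intro h0
  exact right_ne_zero_of_mul h (Finset.prod_eq_zero (Finset.mem_univ i) (by rw [h0, zero_pow (D.pos i)]))

theorem seq_coeff_zero [FiniteDimensional F V] (h : LinearMap.det T ≠ 0) {n : ℕ} (k : Fin n) :
    (D.seq n k).coeff 0 ≠ 0 := by
  classical
  rw [D.seq_eq_prod, coeff_zero_eq_eval_zero, eval_prod]
  exact Finset.prod_ne_zero_iff.2 fun i _ => by rw [← coeff_zero_eq_eval_zero]; exact D.coeff_zero_ne h i

theorem part_zero : D.part 0 = 0 := by
  classical
  rw [part, Finset.filter_eq_empty_iff.2 (fun i _ => D.pos i)]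
  rfl

theorem part_large [FiniteDimensional F V] {k : ℕ} (hk : Module.finrank F V < k) : D.part k = 0 := by
  classical
  rw [part, Finset.filter_eq_empty_iff.2 (fun i _ (h : D.e i = k) => by have := D.e_le i; omega)]
  rfl

theorem part_eq_of_seq_eq [FiniteDimensional F V] {T' : Module.End F V} (D' : Decomp T') {n : ℕ}
    (hn : Module.finrank F V = n) (h : D.seq n = D'.seq n) (k : ℕ) : D.part k = D'.part k := by
  classical
  rcases Nat.eq_zero_or_pos k with rfl | hk
  · rw [part_zero, part_zero]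
  · by_cases hk' : k ≤ n
    · have h1 := congrFun h ⟨k - 1, by omega⟩
      simp only [seq, Nat.sub_add_cancel hk] at h1
      rw [← factors_prod (fun P hP => D.part_spec hP), h1, factors_prod (fun P hP => D'.part_spec hP)]
    · rw [D.part_large (by omega), D'.part_large (by omega)]

theorem seq_smul [FiniteDimensional F V] {T' : Module.End F V} (D' : Decomp T') {r : F} (hr : r ≠ 0) (n : ℕ)
    (h : ∀ a : F[X], Module.finrank F (LinearMap.ker (aeval T' a)) =
      Module.finrank F (LinearMap.ker (aeval (r • T) a))) :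
    D'.seq n = fun k => (D.seq n k).scaleRoots r := by
  funext k
  rw [seq, seq, D.part_eq D' (fun P => P.scaleRoots r) ?_ ?_ ?_ ?_ _ (Nat.succ_ne_zero _),
    scaleRoots_multiset_prod]
  · intro P Q hPQ
    rw [← scaleRoots_inverse P r hr, show P.scaleRoots r = Q.scaleRoots r from hPQ, scaleRoots_inverse Q r hr]
  · exact fun P hP hPm => ⟨irreducible_scaleRoots hP hPm hr, (monic_scaleRoots_iff r).2 hPm, natDegree_scaleRoots P r⟩
  · intro Q hQ hQm
    refine ⟨Q.scaleRoots r⁻¹, irreducible_scaleRoots hQ hQm (inv_ne_zero hr), (monic_scaleRoots_iff _).2 hQm, ?_⟩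
    show (Q.scaleRoots r⁻¹).scaleRoots r = Q
    rw [← scaleRoots_mul, inv_mul_cancel₀ hr, scaleRoots_one]
  · intro P _ _ j
    rw [h, ← pow_scaleRoots_of_isReduced, ker_aeval_smul T hr]

end Decomp

section Groups

variable [Fintype F] {n : ℕ}

/-- The common exponent of the support of a sequence. -/
noncomputable def hdata {M : ℕ} (G : Fin M → F[X]) : ℕ :=
  Nat.gcd (Fintype.card F - 1) ((Finset.univ.filter fun k => (G k).natDegree ≠ 0).gcd fun k : Fin M => k.val + 1)

/-- A group containing all powers of order in a set contains those of the common order. -/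
theorem pow_hdata_mem {M : ℕ} (G : Fin M → F[X]) (K : Subgroup Fˣ)
    (h : ∀ k : Fin M, (G k).natDegree ≠ 0 → ∀ μ : Fˣ, μ ^ (k.val + 1) ∈ K) (μ : Fˣ) : μ ^ hdata G ∈ K := by
  classical
  have hg : ∀ a b : ℕ, (∀ μ : Fˣ, μ ^ a ∈ K) → (∀ μ : Fˣ, μ ^ b ∈ K) → ∀ μ : Fˣ, μ ^ Nat.gcd a b ∈ K := by
    intro a b ha hb μ
    rw [← zpow_natCast, Nat.gcd_eq_gcd_ab, zpow_add, zpow_mul, zpow_mul, zpow_natCast, zpow_natCast]
    exact K.mul_mem (K.zpow_mem (ha μ) _) (K.zpow_mem (hb μ) _)
  refine hg _ _ (fun μ => ?_) ?_ μ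
  · have : μ ^ (Fintype.card F - 1) = 1 := by rw [← Fintype.card_units]; exact pow_card_eq_one
    rw [this]
    exact K.one_mem
  · refine Finset.induction_on' (motive := fun s => ∀ μ : Fˣ, μ ^ s.gcd (fun k : Fin M => k.val + 1) ∈ K)
      (Finset.univ.filter fun k => (G k).natDegree ≠ 0) (fun μ => by simp [K.one_mem]) ?_
    intro a s ha _ _ ih μ
    rw [Finset.gcd_insert]
    exact hg _ _ (h a (Finset.mem_filter.1 ha).2) ih μ

/-- The chosen decomposition of an element. -/
noncomputable def decompOf (g : GL (Fin n) F) : Decomp (Matrix.toLinAlgEquiv' (g : Matrix (Fin n) (Fin n) F)) :=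
  (exists_decomp _).some

theorem finrank_fin : Module.finrank F (Fin n → F) = n := Module.finrank_fin_fun F

theorem det_toLinAlgEquiv' (A : Matrix (Fin n) (Fin n) F) :
    LinearMap.det (Matrix.toLinAlgEquiv' A) = A.det := LinearMap.det_toLin' A

theorem det_ne_zero' (g : GL (Fin n) F) :
    LinearMap.det (Matrix.toLinAlgEquiv' (g : Matrix (Fin n) (Fin n) F)) ≠ 0 := by
  rw [det_toLinAlgEquiv', ← Matrix.GeneralLinearGroup.val_det_apply]
  exact Units.ne_zero _

/-- The parameters of an element. -/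
noncomputable def dataOf (g : GL (Fin n) F) : SeqT F n n :=
  ⟨(decompOf g).seq n, fun k => ⟨(decompOf g).seq_monic k, (decompOf g).seq_coeff_zero (det_ne_zero' g) k⟩,
    (decompOf g).wdeg_seq finrank_fin⟩

theorem det_dataOf (g : GL (Fin n) F) :
    (g : Matrix (Fin n) (Fin n) F).det = (-1) ^ n * ∏ k : Fin n, ((dataOf g).1 k).coeff 0 ^ (k.val + 1) := by
  rw [← det_toLinAlgEquiv', (decompOf g).det_seq finrank_fin]
  rfl

theorem isConj_of_data {g g' : GL (Fin n) F} (h : dataOf g = dataOf g') : IsConj g g' := by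
  classical
  obtain ⟨c, hc⟩ := (decompOf g).similar (decompOf g')
    ((decompOf g).part_eq_of_seq_eq (decompOf g') finrank_fin (congrArg Subtype.val h))
  let C : Matrix (Fin n) (Fin n) F := Matrix.toLinAlgEquiv'.symm c.toLinearMap
  let C' : Matrix (Fin n) (Fin n) F := Matrix.toLinAlgEquiv'.symm c.symm.toLinearMap
  have h1 : C * C' = 1 := by
    apply Matrix.toLinAlgEquiv'.injective
    rw [map_mul, map_one, AlgEquiv.apply_symm_apply, AlgEquiv.apply_symm_apply]
    exact LinearMap.ext c.apply_symm_apply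
  have h2 : C' * C = 1 := by
    apply Matrix.toLinAlgEquiv'.injective
    rw [map_mul, map_one, AlgEquiv.apply_symm_apply, AlgEquiv.apply_symm_apply]
    exact LinearMap.ext c.symm_apply_apply
  refine ⟨toUnits ⟨C, C', h1, h2⟩, Units.ext ?_⟩
  show C * (g : Matrix (Fin n) (Fin n) F) = (g' : Matrix (Fin n) (Fin n) F) * C
  apply Matrix.toLinAlgEquiv'.injective
  rw [map_mul, map_mul, AlgEquiv.apply_symm_apply]
  exact LinearMap.ext hc

theorem aeval_toLinAlgEquiv' (A : Matrix (Fin n) (Fin n) F) (a : F[X]) :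
    aeval (Matrix.toLinAlgEquiv' A) a = Matrix.toLinAlgEquiv' (aeval A a) :=
  aeval_algHom_apply (Matrix.toLinAlgEquiv' : Matrix (Fin n) (Fin n) F ≃ₐ[F] _).toAlgHom A a

theorem data_smul {g g' : GL (Fin n) F} {r : F} (hr : r ≠ 0) {x : GL (Fin n) F}
    (h : (g' : Matrix (Fin n) (Fin n) F) * x = x * (r • (g : Matrix (Fin n) (Fin n) F))) :
    (dataOf g').1 = fun k => ((dataOf g).1 k).scaleRoots r := by
  refine (decompOf g).seq_smul (decompOf g') hr n fun a => ?_
  rw [← map_smul, aeval_toLinAlgEquiv', aeval_toLinAlgEquiv']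
  have ha : aeval (g' : Matrix (Fin n) (Fin n) F) a * x = x * aeval (r • (g : Matrix (Fin n) (Fin n) F)) a := by
    induction a using Polynomial.induction_on' with
    | add p q hp hq => rw [map_add, map_add, add_mul, mul_add, hp, hq]
    | monomial k c =>
      have hk : (g' : Matrix (Fin n) (Fin n) F) ^ k * x = x * (r • (g : Matrix (Fin n) (Fin n) F)) ^ k := by
        induction k with
        | zero => rw [pow_zero, pow_zero, one_mul, mul_one]
        | succ k ih => rw [pow_succ, pow_succ, mul_assoc, h, ← mul_assoc, ih, mul_assoc]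
      rw [aeval_monomial, aeval_monomial, mul_assoc, hk, ← mul_assoc, ← mul_assoc, Algebra.commutes]
  let L : (Fin n → F) ≃ₗ[F] (Fin n → F) :=
    LinearEquiv.ofLinear (Matrix.toLinAlgEquiv' (x : Matrix (Fin n) (Fin n) F))
      (Matrix.toLinAlgEquiv' ((x⁻¹ : GL (Fin n) F) : Matrix (Fin n) (Fin n) F))
      (by rw [← Module.End.mul_eq_comp, ← map_mul, Units.mul_inv, map_one]; rfl)
      (by rw [← Module.End.mul_eq_comp, ← map_mul, Units.inv_mul, map_one]; rfl)
  have hker : (LinearMap.ker (Matrix.toLinAlgEquiv' (aeval (r • (g : Matrix (Fin n) (Fin n) F)) a))).map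
      (L : (Fin n → F) →ₗ[F] (Fin n → F)) =
      LinearMap.ker (Matrix.toLinAlgEquiv' (aeval (g' : Matrix (Fin n) (Fin n) F) a)) := by
    refine Submodule.ext fun y => ?_
    rw [Submodule.mem_map_equiv, LinearMap.mem_ker, LinearMap.mem_ker]
    obtain ⟨z, rfl⟩ := L.surjective y
    rw [LinearEquiv.symm_apply_apply]
    show _ ↔ Matrix.toLinAlgEquiv' (aeval (g' : Matrix (Fin n) (Fin n) F) a)
      (Matrix.toLinAlgEquiv' (x : Matrix (Fin n) (Fin n) F) z) = 0
    rw [← Module.End.mul_apply, ← map_mul, ha, map_mul, Module.End.mul_apply]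
    exact (L.map_eq_zero_iff).symm
  rw [← hker, LinearEquiv.finrank_map_eq]

theorem data_of_isConj {g g' : GL (Fin n) F} (h : IsConj g g') : dataOf g = dataOf g' := by
  obtain ⟨x, hx⟩ := h
  refine Subtype.ext ?_
  rw [data_smul (g' := g') (g := g) (x := (x : GL (Fin n) F)) one_ne_zero (by
    rw [one_smul]; exact congrArg Units.val (SemiconjBy.eq hx).symm)]
  simp only [scaleRoots_one]

theorem exists_centraliser_det (g : GL (Fin n) F) (μ : Fˣ) :
    ∃ c : GL (Fin n) F, c * g = g * c ∧ Matrix.GeneralLinearGroup.det c = μ ^ hdata (dataOf g).1 := by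
  classical
  let K : Subgroup Fˣ := (Subgroup.centralizer {g}).map Matrix.GeneralLinearGroup.det
  suffices h : μ ^ hdata (dataOf g).1 ∈ K by
    obtain ⟨c, hc, hd⟩ := Subgroup.mem_map.1 h
    exact ⟨c, (Subgroup.mem_centralizer_iff.1 hc g rfl).symm, hd⟩
  refine pow_hdata_mem _ K (fun k hk ν => ?_) μ
  obtain ⟨i, hi⟩ : ∃ i, (decompOf g).e i = k.val + 1 := by
    by_contra hne
    refine hk ?_
    show ((decompOf g).seq n k).natDegree = 0
    rw [(decompOf g).seq_natDegree, Finset.sum_eq_zero]
    exact fun i hi => absurd ⟨i, (Finset.mem_filter.1 hi).2⟩ hne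
  obtain ⟨c, hc, hd⟩ := (decompOf g).exists_comm_det i ν
  have hdet : (Matrix.toLinAlgEquiv'.symm c).det = (ν : F) ^ (k.val + 1) := by
    rw [← det_toLinAlgEquiv', AlgEquiv.apply_symm_apply, hd, hi]
  refine Subgroup.mem_map.2 ⟨Matrix.GeneralLinearGroup.mkOfDetNeZero _
    (by rw [hdet]; exact pow_ne_zero _ ν.ne_zero), Subgroup.mem_centralizer_iff.2 fun y hy => ?_, ?_⟩
  · rw [Set.mem_singleton_iff.1 hy]
    refine Units.ext ?_
    apply Matrix.toLinAlgEquiv'.injective
    rw [Units.val_mul, Units.val_mul, map_mul, map_mul, Matrix.GeneralLinearGroup.val_mkOfDetNeZero,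
      AlgEquiv.apply_symm_apply, hc]
  · refine Units.ext ?_
    rw [Matrix.GeneralLinearGroup.val_det_apply, Matrix.GeneralLinearGroup.val_mkOfDetNeZero, hdet,
      Units.val_pow_eq_pow_val]

end Groups

end Cfsg.Agent.Small.ClassNumber
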