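import Cfsg.Agent.Lib.Small.ClassNumber.Arith
import Cfsg.Agent.Lib.Small.SemisimpleCount

/-!
The class numbers of the general, special and projective special linear groups.
-/

set_option autoImplicit false
set_option linter.style.haveILetI false
set_option linter.unusedSectionVars false

namespace Cfsg.Agent.Small.ClassNumber

open Polynomial

universe u

theorem card_classes_quotient_center (G : Type u) [Group G] [Finite G] [Fintype (Subgroup.center G)] :
    Nat.card (Subgroup.center G) * Nat.card (ConjClasses (G ⧸ Subgroup.center G)) =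
      ∑ z : Subgroup.center G, Nat.card {C : ConjClasses G // ∃ g, ConjClasses.mk g = C ∧ IsConj ((z : G) * g) g} := by
  classical
  have hcomm : ∀ (z : Subgroup.center G) (c a : G), c * ((z : G) * a) * c⁻¹ = (z : G) * (c * a * c⁻¹) := fun z c a => by
    rw [← mul_assoc c, Subgroup.mem_center_iff.1 z.2 c, mul_assoc (z : G), mul_assoc (z : G)]
  have hconj : ∀ (z : Subgroup.center G) (a b : G), IsConj a b → IsConj ((z : G) * a) ((z : G) * b) := by
    intro z a b h
    obtain ⟨c, rfl⟩ := isConj_iff.1 h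
    exact isConj_iff.2 ⟨c, hcomm z c a⟩
  letI : MulAction (Subgroup.center G) (ConjClasses G) :=
    { smul := fun z => Quotient.map (fun g => (z : G) * g) (fun a b h => hconj z a b h)
      one_smul := fun C => by
        induction C using Quotient.inductionOn with
        | h a => exact congrArg _ (one_mul a)
      mul_smul := fun z w C => by
        induction C using Quotient.inductionOn with
        | h a => exact congrArg _ (mul_assoc (z : G) w a) }
  have hsmul : ∀ (z : Subgroup.center G) (g : G), z • ConjClasses.mk g = ConjClasses.mk ((z : G) * g) := fun _ _ => rfl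
  let π : ConjClasses G → ConjClasses (G ⧸ Subgroup.center G) :=
    ConjClasses.map (QuotientGroup.mk' (Subgroup.center G))
  have hπ : ∀ C D, π C = π D ↔ (MulAction.orbitRel (Subgroup.center G) (ConjClasses G)).r C D := by
    intro C D
    obtain ⟨a, rfl⟩ := ConjClasses.exists_rep C
    obtain ⟨b, rfl⟩ := ConjClasses.exists_rep D
    constructor
    · intro h
      obtain ⟨c, hc⟩ := isConj_iff.1 (ConjClasses.mk_eq_mk_iff_isConj.1 h)
      obtain ⟨c, rfl⟩ := QuotientGroup.mk'_surjective _ c
      rw [← map_inv, ← map_mul, ← map_mul] at hc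
      obtain ⟨z, hz, hz'⟩ := (QuotientGroup.mk'_eq_mk' (N := Subgroup.center G)).1 hc
      refine MulAction.mem_orbit_symm.1 ⟨⟨z, hz⟩, ?_⟩
      show ConjClasses.mk (z * a) = ConjClasses.mk b
      rw [ConjClasses.mk_eq_mk_iff_isConj, isConj_iff]
      exact ⟨c, by rw [hcomm ⟨z, hz⟩ c a, ← hz']; exact (Subgroup.mem_center_iff.1 hz _).symm⟩
    · rintro ⟨z, hz⟩
      rw [← hz]
      show ConjClasses.mk (QuotientGroup.mk' _ ((z : G) * b)) = ConjClasses.mk (QuotientGroup.mk' _ b)
      rw [map_mul, (QuotientGroup.eq_one_iff (z : G)).2 z.2 |> fun h => show QuotientGroup.mk' _ (z : G) = 1 from h,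
        one_mul]
  have e : Quotient (MulAction.orbitRel (Subgroup.center G) (ConjClasses G)) ≃ ConjClasses (G ⧸ Subgroup.center G) := by
    refine Equiv.ofBijective (Quotient.lift π fun C D h => (hπ C D).2 h) ⟨?_, ?_⟩
    · intro x y
      induction x using Quotient.inductionOn with
      | h C =>
        induction y using Quotient.inductionOn with
        | h D => exact fun h => Quotient.sound ((hπ C D).1 h)
    · intro E
      obtain ⟨x, rfl⟩ := ConjClasses.exists_rep E
      obtain ⟨g, rfl⟩ := QuotientGroup.mk'_surjective _ x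
      exact ⟨Quotient.mk _ (ConjClasses.mk g), rfl⟩
  haveI : Fintype (Quotient (MulAction.orbitRel (Subgroup.center G) (ConjClasses G))) := Fintype.ofFinite _
  haveI : ∀ z : Subgroup.center G, Fintype (MulAction.fixedBy (ConjClasses G) z) := fun _ => Fintype.ofFinite _
  rw [← Nat.card_congr e, Nat.card_eq_fintype_card, Nat.card_eq_fintype_card, mul_comm,
    ← MulAction.sum_card_fixedBy_eq_card_orbits_mul_card_group]
  refine Finset.sum_congr rfl fun z _ => ?_
  rw [← Nat.card_eq_fintype_card]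
  refine Nat.card_congr (Equiv.subtypeEquivRight fun C => ?_)
  constructor
  · intro h
    obtain ⟨g, rfl⟩ := ConjClasses.exists_rep C
    exact ⟨g, rfl, ConjClasses.mk_eq_mk_iff_isConj.1 h⟩
  · rintro ⟨g, rfl, h⟩
    exact ConjClasses.mk_eq_mk_iff_isConj.2 h

variable {F : Type u} [Field F] [Fintype F] {n : ℕ}

theorem gl_upper : Nat.card (ConjClasses (GL (Fin n) F)) ≤ Fintype.card F ^ n := by
  refine le_trans ?_ (numT_le F n n).1
  refine Nat.card_le_card_of_injective (fun C => dataOf (ConjClasses.exists_rep C).choose) fun C D h => ?_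
  rw [← (ConjClasses.exists_rep C).choose_spec, ← (ConjClasses.exists_rep D).choose_spec]
  exact ConjClasses.mk_eq_mk_iff_isConj.2 (isConj_of_data h)

theorem gl_lower (hn : 1 ≤ n) :
    Fintype.card F ^ n - Fintype.card F ^ (n - 1) ≤ Nat.card (ConjClasses (GL (Fin n) F)) := by
  obtain ⟨m, rfl⟩ : ∃ m, n = m + 1 := ⟨n - 1, by omega⟩
  rw [Nat.add_sub_cancel, pow_succ', ← Nat.sub_one_mul, ← Semisimple.card_first_ne (F := F) (n := m)]
  have hex : ∀ a : {a : Fin (m + 1) → F // a 0 ≠ 0}, ∃ g : GL (Fin (m + 1)) F,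
      (g : Matrix (Fin (m + 1)) (Fin (m + 1)) F).charpoly = Semisimple.polyOf a.1 := by
    intro a
    obtain ⟨hm, hd, hc⟩ := Semisimple.polyOf_spec a.1
    obtain ⟨A, hA⟩ := Semisimple.exists_matrix _ hm hd
    have hdet : A.det ≠ 0 := by
      rw [Matrix.det_eq_sign_charpoly_coeff, hA]
      have := hc 0
      rw [Fin.val_zero] at this
      rw [this]
      exact mul_ne_zero (pow_ne_zero _ (neg_ne_zero.2 one_ne_zero)) a.2
    exact ⟨Matrix.GeneralLinearGroup.mkOfDetNeZero A hdet, hA⟩
  choose g hg using hex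
  refine Nat.card_le_card_of_injective (fun a => ConjClasses.mk (g a)) fun a b h => ?_
  have h' := Semisimple.charpoly_eq_of_isConj_GL (ConjClasses.mk_eq_mk_iff_isConj.1 h)
  rw [hg, hg] at h'
  exact Subtype.ext (Semisimple.polyOf_injective h')

theorem sl_lower (hn : 2 ≤ n) :
    Fintype.card F ^ (n - 1) < Nat.card (ConjClasses (Matrix.SpecialLinearGroup (Fin n) F)) := by
  classical
  obtain ⟨m, rfl⟩ : ∃ m, n = m + 2 := ⟨n - 2, by omega⟩
  rw [show m + 2 - 1 = m + 1 by omega, ← Semisimple.card_first_eq (F := F) (n := m + 1) ((-1) ^ (m + 2))]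
  have hex : ∀ a : {a : Fin (m + 2) → F // a 0 = (-1) ^ (m + 2)},
      ∃ g : Matrix.SpecialLinearGroup (Fin (m + 2)) F,
        (g : Matrix (Fin (m + 2)) (Fin (m + 2)) F).charpoly = Semisimple.polyOf a.1 := by
    intro a
    obtain ⟨hm, hd, hc⟩ := Semisimple.polyOf_spec a.1
    obtain ⟨A, hA⟩ := Semisimple.exists_matrix _ hm hd
    have hdet : A.det = 1 := by
      rw [Matrix.det_eq_sign_charpoly_coeff, hA]
      have := hc 0
      rw [Fin.val_zero] at this
      rw [this, a.2, Fintype.card_fin, ← pow_add, Even.neg_one_pow ⟨m + 2, rfl⟩]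
    exact ⟨⟨A, hdet⟩, hA⟩
  choose g hg using hex
  have hcp : ∀ x y : Matrix.SpecialLinearGroup (Fin (m + 2)) F, ConjClasses.mk x = ConjClasses.mk y →
      (x : Matrix (Fin (m + 2)) (Fin (m + 2)) F).charpoly = (y : Matrix (Fin (m + 2)) (Fin (m + 2)) F).charpoly :=
    fun x y h => by
      obtain ⟨c, rfl⟩ := isConj_iff.1 (ConjClasses.mk_eq_mk_iff_isConj.1 h)
      rw [Matrix.SpecialLinearGroup.coe_mul, Matrix.SpecialLinearGroup.coe_mul, Matrix.charpoly_mul_comm,
        ← Matrix.mul_assoc, ← Matrix.SpecialLinearGroup.coe_mul, inv_mul_cancel,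
        Matrix.SpecialLinearGroup.coe_one, Matrix.one_mul]
  have h01 : (0 : Fin (m + 2)) ≠ 1 := by simp
  obtain ⟨t, ht⟩ : ∃ t : Matrix.SpecialLinearGroup (Fin (m + 2)) F,
      (t : Matrix (Fin (m + 2)) (Fin (m + 2)) F) = Matrix.transvection 0 1 1 :=
    ⟨⟨_, Matrix.det_transvection_of_ne 0 1 h01 1⟩, rfl⟩
  have htc : (t : Matrix (Fin (m + 2)) (Fin (m + 2)) F).charpoly =
      (1 : Matrix (Fin (m + 2)) (Fin (m + 2)) F).charpoly := by
    have hut : Matrix.BlockTriangular (t : Matrix (Fin (m + 2)) (Fin (m + 2)) F) id := by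
      intro i j hij
      replace hij : j < i := hij
      rw [ht, Matrix.transvection, Matrix.add_apply, Matrix.one_apply_ne hij.ne', zero_add,
        Matrix.single_apply_of_ne]
      rintro ⟨rfl, rfl⟩
      exact absurd hij (by simp)
    rw [Matrix.charpoly_of_isUpperTriangular _ hut, Matrix.charpoly_one]
    rw [Finset.prod_congr rfl (g := fun _ => (X : F[X]) - 1) fun i _ => by
      rw [ht, Matrix.transvection, Matrix.add_apply, Matrix.one_apply_eq, Matrix.single_apply_of_ne, add_zero, map_one]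
      rintro ⟨rfl, h⟩
      exact h01 h.symm, Finset.prod_const, Finset.card_univ]
  have ht1 : ConjClasses.mk t ≠ ConjClasses.mk 1 := by
    intro h
    have h1 : t = 1 := isConj_one_left.1 (ConjClasses.mk_eq_mk_iff_isConj.1 h)
    have h2 := congrArg (fun x : Matrix.SpecialLinearGroup (Fin (m + 2)) F =>
      (x : Matrix (Fin (m + 2)) (Fin (m + 2)) F) 0 1) h1
    simp only [ht, Matrix.SpecialLinearGroup.coe_one, Matrix.transvection, Matrix.add_apply,
      Matrix.one_apply_ne h01, Matrix.single_apply_same, zero_add] at h2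
    exact one_ne_zero h2
  obtain ⟨u, hu, hu'⟩ : ∃ u : Matrix.SpecialLinearGroup (Fin (m + 2)) F,
      (u : Matrix (Fin (m + 2)) (Fin (m + 2)) F).charpoly = (1 : Matrix (Fin (m + 2)) (Fin (m + 2)) F).charpoly ∧
      ∀ a, ConjClasses.mk (g a) ≠ ConjClasses.mk u := by
    by_cases h : ∀ a, ConjClasses.mk (g a) ≠ ConjClasses.mk (1 : Matrix.SpecialLinearGroup (Fin (m + 2)) F)
    · exact ⟨1, by rw [Matrix.SpecialLinearGroup.coe_one], h⟩
    · simp only [not_forall, ne_eq, not_not] at h
      obtain ⟨a, ha⟩ := h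
      refine ⟨t, htc, fun b hb => ht1 ?_⟩
      have h1 := hcp _ _ hb
      have h2 := hcp _ _ ha
      rw [hg, htc] at h1
      rw [hg, Matrix.SpecialLinearGroup.coe_one] at h2
      have : b = a := Subtype.ext (Semisimple.polyOf_injective (h1.trans h2.symm))
      subst this
      exact hb.symm.trans ha
  have hlt := Nat.card_le_card_of_injective
    (fun a : Option {a : Fin (m + 2) → F // a 0 = (-1) ^ (m + 2)} => a.elim (ConjClasses.mk u) fun b => ConjClasses.mk (g b))
    (fun a b h => by
      rcases a with - | a <;> rcases b with - | b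
      · rfl
      · exact absurd h.symm (hu' b)
      · exact absurd h (hu' a)
      · have h' := hcp _ _ h
        rw [hg, hg] at h'
        exact congrArg _ (Subtype.ext (Semisimple.polyOf_injective h')))
  rw [Finite.card_option] at hlt
  exact hlt

/-- A scalar central element fixes few classes. -/
theorem fixed_le (r : Fˣ) (hr : r ^ n = 1) (z : Matrix.SpecialLinearGroup (Fin n) F)
    (hz : (z : Matrix (Fin n) (Fin n) F) = (r : F) • 1) :
    (Fintype.card F - 1) * Nat.card {C : ConjClasses (Matrix.SpecialLinearGroup (Fin n) F) //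
      ∃ g, ConjClasses.mk g = C ∧ IsConj (z * g) g} ≤ sqSum F n (n / orderOf r) ∧ orderOf r ∣ n :=
  ⟨card_fixed_le r z hz, orderOf_dvd_of_pow_eq_one hr⟩

theorem card_sl_le :
    (Fintype.card F - 1) * Nat.card (ConjClasses (Matrix.SpecialLinearGroup (Fin n) F)) ≤ sqSum F n n := by
  have h := card_fixed_le (n := n) (1 : Fˣ) 1 (by rw [Matrix.SpecialLinearGroup.coe_one, Units.val_one, one_smul])
  rw [orderOf_one, Nat.div_one] at h
  refine le_trans (Nat.mul_le_mul_left _ (le_of_eq ?_)) h
  refine Nat.card_congr (Equiv.subtypeUnivEquiv fun C => ?_).symm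
  obtain ⟨g, rfl⟩ := ConjClasses.exists_rep C
  exact ⟨g, rfl, by rw [one_mul]⟩

theorem sl_upper_three (hn : 3 ≤ n) :
    Nat.card (ConjClasses (Matrix.SpecialLinearGroup (Fin n) F)) ≤
      Fintype.card F ^ (n - 1) + 3 * Fintype.card F ^ (n - 2) :=
  Nat.le_of_mul_le_mul_left (card_sl_le.trans (sqSum_three_le hn le_rfl)) (Nat.sub_pos_of_lt Fintype.one_lt_card)

theorem sl_two_upper : Nat.card (ConjClasses (Matrix.SpecialLinearGroup (Fin 2) F)) ≤ Fintype.card F + 4 ∧
    (Fintype.card F = 2 → Nat.card (ConjClasses (Matrix.SpecialLinearGroup (Fin 2) F)) ≤ 3) := by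
  refine ⟨Nat.le_of_mul_le_mul_left (card_sl_le.trans (sqSum_two le_rfl).1)
    (Nat.sub_pos_of_lt Fintype.one_lt_card), fun hq => ?_⟩
  have h := (card_sl_le (F := F)).trans ((sqSum_two le_rfl).2 hq)
  rwa [hq, Nat.succ_sub_one, one_mul] at h

theorem sl_upper (hn : 2 ≤ n) :
    2 * Nat.card (ConjClasses (Matrix.SpecialLinearGroup (Fin n) F)) ≤ 5 * Fintype.card F ^ (n - 1) := by
  have hq : 1 < Fintype.card F := Fintype.one_lt_card
  rcases Nat.lt_or_ge n 3 with h | h
  · obtain rfl : n = 2 := by omega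
    obtain ⟨h1, h2⟩ := sl_two_upper (F := F)
    rw [show 2 - 1 = 1 from rfl, pow_one]
    rcases eq_or_ne (Fintype.card F) 2 with hc | hc
    · have := h2 hc; omega
    · omega
  · have h1 := sl_upper_three (F := F) h
    have h2 : Fintype.card F ^ (n - 1) = Fintype.card F * Fintype.card F ^ (n - 2) := by
      rw [← pow_succ', show n - 1 = n - 2 + 1 by omega]
    have h3 := Nat.mul_le_mul_right (Fintype.card F ^ (n - 2)) (show 2 ≤ Fintype.card F from hq)
    omega

theorem card_center (hn : 1 ≤ n) :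
    Nat.card (Subgroup.center (Matrix.SpecialLinearGroup (Fin n) F)) = Nat.gcd n (Fintype.card F - 1) := by
  classical
  rw [Nat.card_congr (Matrix.SpecialLinearGroup.center_equiv_rootsOfUnity' (⟨0, hn⟩ : Fin n)).toEquiv,
    Fintype.card_fin, Nat.gcd_comm, ← Fintype.card_units, ← Nat.card_eq_fintype_card,
    ← IsCyclic.card_powMonoidHom_ker]
  rfl

theorem center_scalar (z : Subgroup.center (Matrix.SpecialLinearGroup (Fin n) F)) (hn : 1 ≤ n) :
    ∃ r : Fˣ, r ^ n = 1 ∧ ((z : Matrix.SpecialLinearGroup (Fin n) F) : Matrix (Fin n) (Fin n) F) = (r : F) • 1 ∧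
      (r = 1 → z = 1) := by
  obtain ⟨r, hr, hz⟩ := Matrix.SpecialLinearGroup.mem_center_iff.1 z.2
  rw [Fintype.card_fin] at hr
  refine ⟨Units.ofPowEqOne r n hr (by omega), Units.pow_ofPowEqOne _ _, ?_, fun h => ?_⟩
  · rw [← hz, Matrix.scalar_apply, ← Matrix.smul_one_eq_diagonal]
    rfl
  · have h1 : r = 1 := congrArg Units.val h
    refine Subtype.ext (Subtype.ext ?_)
    rw [← hz, h1, map_one]
    rfl

theorem psl_lower (hn : 2 ≤ n) :
    Fintype.card F ^ (n - 1) ≤ Nat.gcd n (Fintype.card F - 1) *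
      Nat.card (ConjClasses (Matrix.ProjectiveSpecialLinearGroup (Fin n) F)) := by
  classical
  haveI : Fintype (Subgroup.center (Matrix.SpecialLinearGroup (Fin n) F)) := Fintype.ofFinite _
  rw [← card_center (F := F) (by omega : 1 ≤ n)]
  show _ ≤ _ * Nat.card (ConjClasses (Matrix.SpecialLinearGroup (Fin n) F ⧸ _))
  rw [card_classes_quotient_center]
  refine le_trans (sl_lower hn).le (le_trans ?_ (Finset.single_le_sum (fun _ _ => Nat.zero_le _) (Finset.mem_univ 1)))
  refine le_of_eq (Nat.card_congr (Equiv.subtypeUnivEquiv fun C => ?_).symm)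
  obtain ⟨g, rfl⟩ := ConjClasses.exists_rep C
  exact ⟨g, rfl, by rw [OneMemClass.coe_one, one_mul]; exact IsConj.refl g⟩

theorem psl_upper (hn : 2 ≤ n) :
    Nat.gcd n (Fintype.card F - 1) * Nat.card (ConjClasses (Matrix.ProjectiveSpecialLinearGroup (Fin n) F)) ≤
      Fintype.card F ^ (n - 1) + 5 * Fintype.card F ^ (n - 2) := by
  classical
  haveI : Fintype (Subgroup.center (Matrix.SpecialLinearGroup (Fin n) F)) := Fintype.ofFinite _
  have hq : 1 < Fintype.card F := Fintype.one_lt_card
  have hp : 0 < Fintype.card F - 1 := by omega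
  rw [← card_center (F := F) (by omega : 1 ≤ n)]
  show _ * Nat.card (ConjClasses (Matrix.SpecialLinearGroup (Fin n) F ⧸ _)) ≤ _
  rw [card_classes_quotient_center, ← Finset.add_sum_erase _ _ (Finset.mem_univ 1)]
  have hone : Nat.card {C : ConjClasses (Matrix.SpecialLinearGroup (Fin n) F) // ∃ g, ConjClasses.mk g = C ∧
      IsConj (((1 : Subgroup.center (Matrix.SpecialLinearGroup (Fin n) F)) : Matrix.SpecialLinearGroup (Fin n) F) * g) g} ≤
      Nat.card (ConjClasses (Matrix.SpecialLinearGroup (Fin n) F)) :=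
    Nat.card_le_card_of_injective Subtype.val Subtype.val_injective
  have hfix : ∀ z ∈ (Finset.univ : Finset (Subgroup.center (Matrix.SpecialLinearGroup (Fin n) F))).erase 1,
      ∃ m, 1 ≤ m ∧ m * 2 ≤ n ∧ m ∣ n ∧ (Fintype.card F - 1) * Nat.card {C : ConjClasses (Matrix.SpecialLinearGroup (Fin n) F) //
        ∃ g, ConjClasses.mk g = C ∧ IsConj ((z : Matrix.SpecialLinearGroup (Fin n) F) * g) g} ≤ sqSum F n m := by
    intro z hz
    obtain ⟨r, hr, hzr, hr1⟩ := center_scalar z (by omega)
    obtain ⟨h1, h2⟩ := fixed_le r hr z hzr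
    have he1 : orderOf r ≠ 1 := fun h => (Finset.mem_erase.1 hz).1 (hr1 (orderOf_eq_one_iff.1 h))
    have he2 : 2 ≤ orderOf r := by have := orderOf_pos r; omega
    exact ⟨n / orderOf r, Nat.div_pos (Nat.le_of_dvd (by omega) h2) (by omega),
      le_trans (Nat.mul_le_mul_left _ he2) (Nat.div_mul_le_self n _), Nat.div_dvd_of_dvd h2, h1⟩
  have hsum : ∀ B, (∀ m, 1 ≤ m → m * 2 ≤ n → m ∣ n → sqSum F n m ≤ (Fintype.card F - 1) * B) →
      ∑ z ∈ (Finset.univ : Finset (Subgroup.center (Matrix.SpecialLinearGroup (Fin n) F))).erase 1,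
        Nat.card {C : ConjClasses (Matrix.SpecialLinearGroup (Fin n) F) //
          ∃ g, ConjClasses.mk g = C ∧ IsConj ((z : Matrix.SpecialLinearGroup (Fin n) F) * g) g} ≤
        (Nat.gcd n (Fintype.card F - 1) - 1) * B := by
    intro B hB
    refine (Finset.sum_le_card_nsmul _ _ B fun z hz => ?_).trans (le_of_eq ?_)
    · obtain ⟨m, h1, h2, h3, h4⟩ := hfix z hz
      exact Nat.le_of_mul_le_mul_left (h4.trans (hB m h1 h2 h3)) hp
    · rw [smul_eq_mul, Finset.card_erase_of_mem (Finset.mem_univ _), Finset.card_univ, ← Nat.card_eq_fintype_card,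
        card_center (by omega : 1 ≤ n)]
  have hg1 := Nat.le_of_dvd hp (Nat.gcd_dvd_right n (Fintype.card F - 1))
  rcases (show n = 2 ∨ n = 3 ∨ n = 4 ∨ 5 ≤ n by omega) with rfl | rfl | rfl | h5
  · have h := hsum 1 fun m h1 h2 _ => by
      obtain rfl : m = 1 := by omega
      rw [mul_one]
      exact sqSum_one (by omega)
    have hg := Nat.le_of_dvd two_pos (Nat.gcd_dvd_left 2 (Fintype.card F - 1))
    have := (sl_two_upper (F := F)).1
    rw [show 2 - 1 = 1 from rfl, Nat.sub_self, pow_one, pow_zero]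
    omega
  · have h := hsum 1 fun m h1 h2 _ => by
      obtain rfl : m = 1 := by omega
      rw [mul_one]
      exact sqSum_one (by omega)
    have := sl_upper_three (F := F) (n := 3) le_rfl
    have hg := Nat.le_of_dvd three_pos (Nat.gcd_dvd_left 3 (Fintype.card F - 1))
    rw [show 3 - 1 = 2 from rfl, show 3 - 2 = 1 from rfl, pow_one] at this ⊢
    omega
  · have h := hsum (Fintype.card F + 4) fun m h1 h2 _ => by
      rcases (show m = 1 ∨ m = 2 by omega) with rfl | rfl
      · exact (sqSum_one (by omega)).trans (Nat.le_mul_of_pos_right _ (by omega))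
      · exact (sqSum_two (by omega)).1
    have := sl_upper_three (F := F) (n := 4) (by omega)
    rw [show 4 - 1 = 3 from rfl, show 4 - 2 = 2 from rfl] at this ⊢
    have h' : (Nat.gcd 4 (Fintype.card F - 1) - 1) * (Fintype.card F + 4) ≤ 2 * Fintype.card F ^ 2 := by
      refine (Nat.mul_le_mul_right _ (show _ ≤ Fintype.card F - 2 by omega)).trans ?_
      obtain ⟨p, hp'⟩ : ∃ p, Fintype.card F = p + 2 := ⟨Fintype.card F - 2, by omega⟩
      rw [hp', Nat.add_sub_cancel]
      nlinarith
    omega
  · have h := hsum (3 * Fintype.card F ^ (n / 2 - 1)) fun m h1 h2 _ => by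
      refine le_trans ?_ (Nat.mul_le_mul_left _ (Nat.mul_le_mul_left 3
        (Nat.pow_le_pow_right (by omega) (show m - 1 ≤ n / 2 - 1 by omega))))
      rcases (show m = 1 ∨ m = 2 ∨ 3 ≤ m by omega) with rfl | rfl | h3
      · exact (sqSum_one (by omega)).trans (Nat.le_mul_of_pos_right _ (by positivity))
      · exact (sqSum_two (by omega)).1.trans (Nat.mul_le_mul_left _ (by rw [show 2 - 1 = 1 from rfl, pow_one]; omega))
      · refine (sqSum_three_le h3 (by omega)).trans (Nat.mul_le_mul_left _ ?_)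
        have e : Fintype.card F ^ (m - 1) = Fintype.card F * Fintype.card F ^ (m - 2) := by
          rw [← pow_succ', show m - 1 = m - 2 + 1 by omega]
        have h3' := Nat.mul_le_mul_right (Fintype.card F ^ (m - 2)) (show 2 ≤ Fintype.card F from hq)
        omega
    have := sl_upper_three (F := F) (n := n) (by omega)
    have h' : (Nat.gcd n (Fintype.card F - 1) - 1) * (3 * Fintype.card F ^ (n / 2 - 1)) ≤
        2 * Fintype.card F ^ (n - 2) := by
      calc (Nat.gcd n (Fintype.card F - 1) - 1) * (3 * Fintype.card F ^ (n / 2 - 1))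
          ≤ Fintype.card F * (2 * Fintype.card F * Fintype.card F ^ (n / 2 - 1)) :=
            Nat.mul_le_mul (by omega) (Nat.mul_le_mul_right _ (by omega))
        _ = 2 * Fintype.card F ^ (n / 2 - 1 + 2) := by ring
        _ ≤ 2 * Fintype.card F ^ (n - 2) := Nat.mul_le_mul_left 2 (Nat.pow_le_pow_right (by omega) (by omega))
    omega

end Cfsg.Agent.Small.ClassNumber
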